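import Cfsg.Agent.OreSp.Lagrangian

/-!
# Polynomials in an isometry and nondegenerate cyclic subspaces
-/

set_option autoImplicit false

namespace CfsgLib.OreSp

open Module LinearMap Polynomial

variable {F : Type*} [Field F] {V : Type*} [AddCommGroup V] [Module F V]

/-- An isometry with its inverse. -/
structure Isom (ω : LinearMap.BilinForm F V) (g g' : Module.End F V) : Prop where
  inv : g * g' = 1
  inv' : g' * g = 1
  iso : ∀ x y, ω (g x) (g y) = ω x y

variable {ω : LinearMap.BilinForm F V} {g g' : Module.End F V}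

theorem Isom.apply (hg : Isom ω g g') (x : V) : g (g' x) = x := by
  rw [← Module.End.mul_apply, hg.inv, Module.End.one_apply]

theorem Isom.apply' (hg : Isom ω g g') (x : V) : g' (g x) = x := by
  rw [← Module.End.mul_apply, hg.inv', Module.End.one_apply]

theorem Isom.symm (hg : Isom ω g g') : Isom ω g' g :=
  ⟨hg.inv', hg.inv, fun x y => by rw [← hg.iso, hg.apply, hg.apply]⟩

theorem Isom.adj (hg : Isom ω g g') (x y : V) : ω (g x) y = ω x (g' y) := by
  conv_lhs => rw [← hg.apply y, hg.iso]

theorem Isom.adj_aeval (hg : Isom ω g g') (p : F[X]) (x y : V) :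
    ω (aeval g p x) y = ω x (aeval g' p y) := by
  induction p using Polynomial.induction_on' with
  | add p r hp hr => simp only [map_add, LinearMap.add_apply, hp, hr]
  | monomial n c =>
    have h : ∀ (n : ℕ) (x y : V), ω ((g ^ n) x) y = ω x ((g' ^ n) y) := by
      intro n
      induction n with
      | zero => intro x y; simp
      | succ n ih =>
        intro x y
        rw [pow_succ, Module.End.mul_apply, ih, hg.adj, pow_succ', Module.End.mul_apply]
    simp only [aeval_monomial, ← Algebra.smul_def, LinearMap.smul_apply, map_smul, h]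

theorem aeval_comm (p r : F[X]) (g : Module.End F V) (x : V) :
    aeval g p (aeval g r x) = aeval g r (aeval g p x) := by
  rw [← Module.End.mul_apply, ← map_mul, mul_comm p, map_mul, Module.End.mul_apply]

theorem aeval_mul_apply (p r : F[X]) (g : Module.End F V) (x : V) :
    aeval g (p * r) x = aeval g p (aeval g r x) := by
  rw [map_mul, Module.End.mul_apply]

theorem aeval_mem {P : Submodule F V} (hP : ∀ x ∈ P, g x ∈ P) (p : F[X]) {x : V} (hx : x ∈ P) :
    aeval g p x ∈ P := by
  induction p using Polynomial.induction_on' with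
  | add p r hp hr => rw [map_add, LinearMap.add_apply]; exact P.add_mem hp hr
  | monomial n c =>
    rw [aeval_monomial, ← Algebra.smul_def, LinearMap.smul_apply]
    refine P.smul_mem c ?_
    induction n with
    | zero => simpa using hx
    | succ n ih => rw [pow_succ', Module.End.mul_apply]; exact hP _ ih

/-- The cyclic subspace generated by a vector. -/
noncomputable def Cyc (g : Module.End F V) (x : V) : Submodule F V :=
  LinearMap.range ((LinearMap.applyₗ x) ∘ₗ (aeval g).toLinearMap)

theorem mem_cyc {x y : V} : y ∈ Cyc g x ↔ ∃ p : F[X], aeval g p x = y := Iff.rfl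

theorem self_mem_cyc (g : Module.End F V) (x : V) : x ∈ Cyc g x := mem_cyc.2 ⟨1, by simp⟩

theorem cyc_inv (g : Module.End F V) (x : V) : ∀ y ∈ Cyc g x, g y ∈ Cyc g x := by
  intro y hy
  obtain ⟨p, rfl⟩ := mem_cyc.1 hy
  exact mem_cyc.2 ⟨X * p, by rw [aeval_mul_apply, aeval_X]⟩

theorem cyc_le {P : Submodule F V} (hP : ∀ x ∈ P, g x ∈ P) {x : V} (hx : x ∈ P) : Cyc g x ≤ P := by
  intro y hy
  obtain ⟨p, rfl⟩ := mem_cyc.1 hy
  exact aeval_mem hP p hx

theorem sub_one_iso (hg : Isom ω g g') (hs : Sym ω) (x y : V) :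
    ω (g x - x) (g y - y) = 2 * ω x y - ω (g x + g' x) y := by
  simp only [map_sub, map_add, LinearMap.sub_apply, LinearMap.add_apply, hg.iso,
    hg.symm.adj x y]
  ring

theorem Isom.map_mem [FiniteDimensional F V] (hg : Isom ω g g') {P : Submodule F V}
    (hP : ∀ x ∈ P, g x ∈ P) : ∀ x ∈ P, g' x ∈ P := by
  intro x hx
  have hinj : Function.Injective (g.restrict hP) := fun a b h => Subtype.ext (by
    rw [← hg.apply' (a : V), ← hg.apply' (b : V)]
    exact congrArg g' (congrArg Subtype.val h))
  obtain ⟨y, hy⟩ := (LinearMap.injective_iff_surjective.1 hinj) ⟨x, hx⟩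
  have e : g (y : V) = x := congrArg Subtype.val hy
  rw [← e, hg.apply']
  exact y.2

theorem Isom.exists_poly [FiniteDimensional F V] (hg : Isom ω g g') : ∃ s : F[X], aeval g s = g' := by
  have hint : IsIntegral F g := IsIntegral.of_finite F g
  obtain ⟨q, h1⟩ : ∃ q, minpoly F g = C ((minpoly F g).coeff 0) + X * q :=
    ⟨(minpoly F g).divX, by rw [add_comm, X_mul_divX_add]⟩
  have h0 : (minpoly F g).coeff 0 ≠ 0 := by
    intro h
    rw [h, map_zero, zero_add] at h1
    have hq : aeval g q = 0 := by
      have := minpoly.aeval F g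
      rw [h1, map_mul, aeval_X] at this
      calc aeval g q = g' * (g * aeval g q) := by rw [← mul_assoc, hg.inv', one_mul]
        _ = 0 := by rw [this, mul_zero]
    have hne : q ≠ 0 := fun e => minpoly.ne_zero hint (by rw [h1, e, mul_zero])
    have hle := minpoly.degree_le_of_ne_zero F g hne hq
    rw [h1, degree_mul, degree_X] at hle
    obtain ⟨d, hd⟩ : ∃ d : ℕ, degree q = (d : ℕ) := ⟨_, degree_eq_natDegree hne⟩
    rw [hd, show (1 : WithBot ℕ) = ((1 : ℕ) : WithBot ℕ) from rfl, ← Nat.cast_add, Nat.cast_le] at hle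
    omega
  refine ⟨C (-((minpoly F g).coeff 0)⁻¹) * q, ?_⟩
  have := minpoly.aeval F g
  rw [h1, map_add, map_mul, aeval_C, aeval_X, add_eq_zero_iff_neg_eq] at this
  calc aeval g (C (-((minpoly F g).coeff 0)⁻¹) * q)
      = (g' * g) * aeval g (C (-((minpoly F g).coeff 0)⁻¹) * q) := by rw [hg.inv', one_mul]
    _ = g' * ((-((minpoly F g).coeff 0)⁻¹) • (g * aeval g q)) := by
        rw [map_mul, aeval_C, ← Algebra.smul_def, mul_assoc, mul_smul_comm]
    _ = g' := by
        rw [← this, Algebra.algebraMap_eq_smul_one, ← neg_smul, smul_smul]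
        simp [h0]

theorem nd_sym (hs : Sym ω) {P : Submodule F V} (hP : Nd ω P) :
    Sym (ω.compl₁₂ P.subtype P.subtype) :=
  ⟨fun x => hs.alt x, fun x hx => Subtype.ext (hP x x.2 fun y hy => hx ⟨y, hy⟩)⟩

theorem isotropic_finrank_le [FiniteDimensional F V] (hs : Sym ω) {P U : Submodule F V} (hP : Nd ω P)
    (hUP : U ≤ P) (hiso : ∀ x ∈ U, ∀ y ∈ U, ω x y = 0) : 2 * finrank F U ≤ finrank F P := by
  have hs' := nd_sym hs hP
  have hU : finrank F (U.comap P.subtype) = finrank F U := (Submodule.comapSubtypeEquivOfLe hUP).finrank_eq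
  have hle : U.comap P.subtype ≤ LinearMap.BilinForm.orthogonal (ω.compl₁₂ P.subtype P.subtype)
      (U.comap P.subtype) := fun x hx n hn => hiso n hn x hx
  have h := Submodule.finrank_mono hle
  rw [hs'.finrank_orth, hU] at h
  omega

/-- The span of the `S`-translates of a vector. -/
def Span' (S : Module.End F V) (x : V) : Submodule F V :=
  Submodule.span F (Set.range fun i : ℕ => (S ^ i) x)

theorem span'_inv (S : Module.End F V) (x : V) : ∀ y ∈ Span' S x, S y ∈ Span' S x := by
  intro y hy
  induction hy using Submodule.span_induction with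
  | mem z hz =>
    obtain ⟨i, rfl⟩ := hz
    exact Submodule.subset_span ⟨i + 1, by simp [pow_succ', Module.End.mul_apply]⟩
  | zero => simp
  | add a b _ _ h1 h2 => rw [map_add]; exact Submodule.add_mem _ h1 h2
  | smul c a _ h1 => rw [map_smul]; exact Submodule.smul_mem _ c h1

theorem pow_apply_mem {S : Module.End F V} {P : Submodule F V} (hS : ∀ x ∈ P, S x ∈ P) (n : ℕ) {x : V}
    (hx : x ∈ P) : (S ^ n) x ∈ P := by
  induction n with
  | zero => simpa using hx
  | succ n ih => rw [pow_succ', Module.End.mul_apply]; exact hS _ ih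

theorem span'_le {S : Module.End F V} {P : Submodule F V} (hS : ∀ x ∈ P, S x ∈ P) {x : V} (hx : x ∈ P) :
    Span' S x ≤ P :=
  Submodule.span_le.2 (by rintro _ ⟨i, rfl⟩; exact pow_apply_mem hS i hx)

theorem self_mem_span' (S : Module.End F V) (x : V) : x ∈ Span' S x :=
  Submodule.subset_span ⟨0, by simp⟩

/-- The two spans are orthogonal for a self-adjoint operator as soon as the generators are. -/
theorem span'_orth {S : Module.End F V} (hS : ∀ a b, ω (S a) b = ω a (S b)) {x y : V}
    (h : ∀ n, ω ((S ^ n) x) y = 0) : ∀ a ∈ Span' S x, ∀ b ∈ Span' S y, ω a b = 0 := by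
  have hpow : ∀ (n : ℕ) (a b : V), ω a ((S ^ n) b) = ω ((S ^ n) a) b := by
    intro n
    induction n with
    | zero => intro a b; simp
    | succ n ih =>
      intro a b
      rw [pow_succ', Module.End.mul_apply, ← hS, ih, ← Module.End.mul_apply, ← pow_succ, ← pow_succ']
  intro a ha
  induction ha using Submodule.span_induction with
  | mem z hz =>
    obtain ⟨i, rfl⟩ := hz
    intro b hb
    induction hb using Submodule.span_induction with
    | mem z hz =>
      obtain ⟨j, rfl⟩ := hz
      show ω ((S ^ i) x) ((S ^ j) y) = 0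
      rw [hpow, ← Module.End.mul_apply, ← pow_add, h]
    | zero => simp
    | add c d _ _ h1 h2 => rw [map_add, h1, h2, add_zero]
    | smul c d _ h1 => rw [map_smul, h1, smul_zero]
  | zero => intro b _; simp
  | add c d _ _ h1 h2 => intro b hb; rw [map_add, LinearMap.add_apply, h1 b hb, h2 b hb, add_zero]
  | smul c d _ h1 => intro b hb; rw [map_smul, LinearMap.smul_apply, h1 b hb, smul_zero]

/-- An operator `N * M` with `M` adjoint to `N` has isotropic spans. -/
theorem self_zero (hs : Sym ω) {S : Module.End F V} (hS : ∀ a b, ω (S a) b = ω a (S b))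
    (h1 : ∀ a, ω (S a) a = 0) (x : V) (n : ℕ) : ω ((S ^ n) x) x = 0 := by
  have hpow : ∀ (n : ℕ) (a b : V), ω ((S ^ n) a) b = ω a ((S ^ n) b) := by
    intro n
    induction n with
    | zero => intro a b; simp
    | succ n ih =>
      intro a b
      rw [pow_succ, Module.End.mul_apply, ih, hS, ← Module.End.mul_apply, ← pow_succ, ← pow_succ']
  rcases Nat.even_or_odd' n with ⟨r, rfl | rfl⟩
  · rw [two_mul, pow_add, Module.End.mul_apply, hpow, hs.alt]
  · rw [two_mul, add_assoc, pow_add, Module.End.mul_apply, hpow, pow_succ', Module.End.mul_apply, h1]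

/-- A nondegenerate cyclic subspace has upper left block one. -/
theorem oneAt_cyc [FiniteDimensional F V] (hs : Sym ω) (hg : Isom ω g g') (x : V)
    (hP : Nd ω (Cyc g x)) : OneAt ω g (Cyc g x) := by
  set S := g + g' with hSdef
  have hS : ∀ a b, ω (S a) b = ω a (S b) := fun a b => by
    simp only [hSdef, LinearMap.add_apply, map_add, hg.adj a b, hg.symm.adj a b]; ring
  have h1 : ∀ a, ω (S a) a = 0 := fun a => by
    simp only [hSdef, LinearMap.add_apply, map_add, hg.symm.adj a a]
    rw [hs.swap (g a) a]; ring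
  set U := Span' S x with hU
  have hSP : ∀ y ∈ Cyc g x, S y ∈ Cyc g x := fun y hy =>
    Submodule.add_mem _ (cyc_inv g x y hy) (hg.map_mem (cyc_inv g x) y hy)
  have hUP : U ≤ Cyc g x := span'_le hSP (self_mem_cyc g x)
  have hiso : ∀ a ∈ U, ∀ b ∈ U, ω a b = 0 := span'_orth hS (self_zero hs hS h1 x)
  have hle := isotropic_finrank_le hs hP hUP hiso
  have hinv : ∀ y ∈ U ⊔ U.map g, g y ∈ U ⊔ U.map g := by
    intro y hy
    obtain ⟨a, ha, b, hb, rfl⟩ := Submodule.mem_sup.1 hy
    obtain ⟨c, hc, rfl⟩ := Submodule.mem_map.1 hb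
    rw [map_add]
    refine Submodule.add_mem _ (Submodule.mem_sup_right ⟨a, ha, rfl⟩) ?_
    have e : g (g c) = g (S c) + -c := by
      simp [hSdef, hg.apply, add_assoc]
    rw [e]
    exact Submodule.add_mem _ (Submodule.mem_sup_right ⟨_, span'_inv S x c hc, rfl⟩)
      (Submodule.mem_sup_left (U.neg_mem hc))
  have hsup : Cyc g x ≤ U ⊔ U.map g := cyc_le hinv (Submodule.mem_sup_left (self_mem_span' S x))
  have h2 := Submodule.finrank_sup_add_finrank_inf_eq U (U.map g)
  have h3 := Submodule.finrank_mono hsup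
  have h4 : finrank F (U.map g) ≤ finrank F U := Submodule.finrank_map_le _ _
  have hinf : U ⊓ U.map g = ⊥ := Submodule.finrank_eq_zero.1 (by omega)
  refine oneAt_of_lag hs hP (cyc_inv g x) U hUP hiso (by omega) (fun u hu hd => ?_) fun u hu v hv => ?_
  · have h5 : g u ∈ U ⊓ U.map g := ⟨by simpa using U.add_mem hd hu, ⟨u, hu, rfl⟩⟩
    rw [hinf, Submodule.mem_bot] at h5
    have : u = 0 := by rw [← hg.apply' u, h5, map_zero]
    simp [this]
  · rw [sub_one_iso hg hs, show g u + g' u = S u from rfl, hiso _ (span'_inv S x u hu) v hv, hiso u hu v hv,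
      mul_zero, sub_zero]

end CfsgLib.OreSp
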