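import Cfsg.Agent.OreSp.Space

/-!
# From matrices to local commutators
-/

set_option autoImplicit false

namespace CfsgLib.OreSp

open Matrix Module LinearMap

variable {F : Type*} [Field F] {V : Type*} [AddCommGroup V] [Module F V] [FiniteDimensional F V]
variable {ω : LinearMap.BilinForm F V} {ι : Type*} [Fintype ι] [DecidableEq ι]

namespace Frame

variable (fr : Frame ω ι)

/-- The matrix of a map preserving the space of the frame. -/
def mat (T : Module.End F V) : Matrix (ι ⊕ ι) (ι ⊕ ι) F :=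
  Matrix.of fun a c => fr.coord (T (fr.b c)) a

theorem mat_mulVec (T : Module.End F V) (c : ι ⊕ ι → F) : fr.mat T *ᵥ c = fr.coord (T (fr.vec c)) := by
  rw [vec, Fintype.linearCombination_apply, map_sum, map_sum]
  ext a
  simp [mat, mulVec, dotProduct, map_smul, mul_comm]

theorem mat_mul (hs : Sym ω) (T U : Module.End F V) (hU : ∀ x ∈ fr.space, U x ∈ fr.space) :
    fr.mat (T * U) = fr.mat T * fr.mat U := by
  refine Matrix.ext fun a c => ?_
  show fr.coord (T (U (fr.b c))) a = _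
  conv_lhs => rw [← fr.vec_coord hs (hU _ (fr.b_mem c)), ← fr.mat_mulVec]
  rfl

theorem mat_one (hs : Sym ω) : fr.mat 1 = 1 := by
  refine Matrix.ext fun a c => ?_
  show fr.coord (fr.b c) a = _
  rw [fr.coord_b hs, Pi.single_apply, Matrix.one_apply]

theorem mat_mem (hs : Sym ω) (T : Module.End F V) (hT : ∀ x ∈ fr.space, T x ∈ fr.space)
    (hiso : ∀ x y, ω (T x) (T y) = ω x y) : fr.mat T ∈ symplecticGroup ι F := by
  rw [SymplecticGroup.mem_iff']
  have key : (fr.mat T)ᵀ * (-J ι F) * fr.mat T = -J ι F := by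
    refine Matrix.ext fun a c => ?_
    have h := hiso (fr.b a) (fr.b c)
    conv_lhs at h => rw [← fr.vec_coord hs (hT _ (fr.b_mem a)), fr.omega_vec_left hs]
    rw [fr.omega_b_left hs, fr.coord_b hs, Matrix.mulVec_single_one] at h
    show _ = _
    rw [Matrix.mul_assoc]
    exact h
  rw [Matrix.mul_neg, Matrix.neg_mul] at key
  exact neg_inj.1 key

theorem isLoc_lift (hs : Sym ω) (X : symplecticGroup ι F) :
    IsLoc ω fr.space (fr.lift (X : Matrix (ι ⊕ ι) (ι ⊕ ι) F)) :=
  ⟨fr.lift_iso hs (SymplecticGroup.mem_iff'.1 X.2), fun _ hx => fr.lift_of_perp hs _ hx,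
    fun x hx => by rw [fr.lift_of_mem hs _ hx]; exact fr.vec_mem _⟩

/-- A commutator in the symplectic group of a frame gives a local commutator. -/
theorem commOn (hs : Sym ω) (g : Module.End F V) (hg : ∀ x ∈ fr.space, g x ∈ fr.space)
    (A B : symplecticGroup ι F)
    (h : fr.mat g = ((A * B * A⁻¹ * B⁻¹ : symplecticGroup ι F) : Matrix (ι ⊕ ι) (ι ⊕ ι) F)) :
    CommOn ω g fr.space := by
  have hmul : ∀ X Y : symplecticGroup ι F, fr.lift (X : Matrix (ι ⊕ ι) (ι ⊕ ι) F) *
      fr.lift (Y : Matrix (ι ⊕ ι) (ι ⊕ ι) F) = fr.lift ((X * Y : symplecticGroup ι F) : Matrix _ _ F) :=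
    fun X Y => (fr.lift_mul hs _ _).symm
  have hone : fr.lift ((1 : symplecticGroup ι F) : Matrix (ι ⊕ ι) (ι ⊕ ι) F) = 1 := fr.lift_one
  refine ⟨_, _, _, _, fr.isLoc_lift hs A, fr.isLoc_lift hs B, fr.isLoc_lift hs A⁻¹, fr.isLoc_lift hs B⁻¹,
    by rw [hmul, mul_inv_cancel, hone], by rw [hmul, inv_mul_cancel, hone],
    by rw [hmul, mul_inv_cancel, hone], by rw [hmul, inv_mul_cancel, hone], fun x hx => ?_⟩
  have := congrArg (fun M => fr.vec (M *ᵥ fr.coord x)) h
  rw [fr.mat_mulVec, fr.vec_coord hs hx, fr.vec_coord hs (hg x hx)] at this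
  rw [this, ← fr.lift_of_mem hs _ hx, ← hmul, ← hmul, ← hmul]
  rfl

/-- Relabelling a frame. -/
def reindex {κ : Type*} [DecidableEq κ] (e : κ ≃ ι) : Frame ω κ where
  e i := fr.e (e i)
  f i := fr.f (e i)
  ee _ _ := fr.ee _ _
  ff _ _ := fr.ff _ _
  ef i j := by rw [fr.ef]; simp [e.injective.eq_iff]

theorem space_reindex {κ : Type*} [Fintype κ] [DecidableEq κ] (e : κ ≃ ι) :
    (fr.reindex e).space = fr.space := by
  have h : (fr.reindex e).b = fr.b ∘ Equiv.sumCongr e e := by funext a; cases a <;> rfl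
  rw [space, space, h, Set.range_comp, (Equiv.sumCongr e e).surjective.range_eq, Set.image_univ]

/-- The empty frame. -/
def empty (ω : LinearMap.BilinForm F V) : Frame ω (Fin 0) where
  e i := i.elim0
  f i := i.elim0
  ee i := i.elim0
  ff i := i.elim0
  ef i := i.elim0

theorem space_empty : (empty ω).space = ⊥ := by
  rw [space, Set.range_eq_empty, Submodule.span_empty]

/-- The union of two orthogonal frames. -/
def sum {κ : Type*} [DecidableEq κ] (hs : Sym ω) (fr' : Frame ω κ)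
    (h : ∀ a c, ω (Sum.elim fr.e fr.f a) (Sum.elim fr'.e fr'.f c) = 0) : Frame ω (ι ⊕ κ) where
  e := Sum.elim fr.e fr'.e
  f := Sum.elim fr.f fr'.f
  ee := by
    rintro (i | i) (j | j)
    · exact fr.ee i j
    · exact h (.inl i) (.inl j)
    · show ω (fr'.e i) (fr.e j) = 0
      rw [hs.swap, show ω (fr.e j) (fr'.e i) = 0 from h (.inl j) (.inl i), neg_zero]
    · exact fr'.ee i j
  ff := by
    rintro (i | i) (j | j)
    · exact fr.ff i j
    · exact h (.inr i) (.inr j)
    · show ω (fr'.f i) (fr.f j) = 0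
      rw [hs.swap, show ω (fr.f j) (fr'.f i) = 0 from h (.inr j) (.inr i), neg_zero]
    · exact fr'.ff i j
  ef := by
    rintro (i | i) (j | j)
    · simpa using fr.ef i j
    · simpa using h (.inl i) (.inr j)
    · simpa [hs.swap (fr.f j) (fr'.e i)] using h (.inr j) (.inl i)
    · simpa using fr'.ef i j

theorem space_sum {κ : Type*} [Fintype κ] [DecidableEq κ] (hs : Sym ω) (fr' : Frame ω κ)
    (h : ∀ a c, ω (Sum.elim fr.e fr.f a) (Sum.elim fr'.e fr'.f c) = 0) :
    (fr.sum hs fr' h).space = fr.space ⊔ fr'.space := by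
  rw [space, space, space, ← Submodule.span_union]
  congr 1
  ext x
  simp only [b, sum, Set.mem_range, Set.mem_union, Sum.exists, Sum.elim_inl, Sum.elim_inr]
  tauto

end Frame

/-- `T` has upper left block one in some frame of `P`. -/
def OneAt (ω : LinearMap.BilinForm F V) (T : Module.End F V) (P : Submodule F V) : Prop :=
  ∃ (n : ℕ) (fr : Frame ω (Fin n)), fr.space = P ∧
    ∀ i j, ω (T (fr.e j)) (fr.f i) = if i = j then 1 else 0

theorem oneAt_bot (T : Module.End F V) : OneAt ω T ⊥ :=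
  ⟨0, Frame.empty ω, Frame.space_empty, fun i => i.elim0⟩

theorem OneAt.sup (hs : Sym ω) {T : Module.End F V} {P Q : Submodule F V}
    (hP : OneAt ω T P) (hQ : OneAt ω T Q) (hPQ : Perp ω P Q)
    (hTP : ∀ x ∈ P, T x ∈ P) (hTQ : ∀ x ∈ Q, T x ∈ Q) : OneAt ω T (P ⊔ Q) := by
  obtain ⟨n, fr, hfr, h1⟩ := hP
  obtain ⟨k, fr', hfr', h2⟩ := hQ
  have h : ∀ a c, ω (Sum.elim fr.e fr.f a) (Sum.elim fr'.e fr'.f c) = 0 := fun a c =>
    hPQ _ (hfr ▸ fr.b_mem a) _ (hfr' ▸ fr'.b_mem c)
  refine ⟨n + k, (fr.sum hs fr' h).reindex finSumFinEquiv.symm, ?_, fun i j => ?_⟩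
  · rw [Frame.space_reindex, Frame.space_sum, hfr, hfr']
  obtain ⟨i, rfl⟩ := finSumFinEquiv.surjective i
  obtain ⟨j, rfl⟩ := finSumFinEquiv.surjective j
  simp only [Frame.reindex, Equiv.symm_apply_apply, EmbeddingLike.apply_eq_iff_eq]
  rcases i with i | i <;> rcases j with j | j
  · simpa [Frame.sum] using h1 i j
  · simpa [Frame.sum] using
      (hPQ.symm hs) _ (hTQ _ (hfr' ▸ fr'.b_mem (.inl j))) _ (hfr ▸ fr.b_mem (.inr i))
  · simpa [Frame.sum] using hPQ _ (hTP _ (hfr ▸ fr.b_mem (.inl j))) _ (hfr' ▸ fr'.b_mem (.inr i))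
  · simpa [Frame.sum] using h2 i j

theorem Frame.toBlocks_mat (fr : Frame ω ι) (T : Module.End F V) :
    (fr.mat T).toBlocks₁₁ = Matrix.of fun i j => ω (T (fr.e j)) (fr.f i) := rfl

/-- A frame with a good upper left block gives a local commutator. -/
theorem commOn_of_fac (hs : Sym ω) (fr : Frame ω ι) (g : Module.End F V)
    (hg : ∀ x ∈ fr.space, g x ∈ fr.space) (hiso : ∀ x y, ω (g x) (g y) = ω x y)
    (hfac : Fac (fr.mat g).toBlocks₁₁) : CommOn ω g fr.space := by
  obtain ⟨A, B, h⟩ := isComm_of_fac ⟨_, fr.mat_mem hs g hg hiso⟩ rfl hfac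
  exact fr.commOn hs g hg A B (congrArg Subtype.val h)

theorem commOn_of_oneAt [Fintype F] (hs : Sym ω) {g : Module.End F V} {P : Submodule F V}
    (h : OneAt ω g P) (hg : ∀ x ∈ P, g x ∈ P) (hiso : ∀ x y, ω (g x) (g y) = ω x y)
    (h1 : finrank F P = 2 → 4 ≤ Fintype.card F) (h2 : finrank F P = 4 → 3 ≤ Fintype.card F) :
    CommOn ω g P := by
  obtain ⟨n, fr, rfl, hblock⟩ := h
  rcases Nat.eq_zero_or_pos n with rfl | hn
  · have : fr.space = ⊥ := by rw [Frame.space, Set.range_eq_empty, Submodule.span_empty]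
    rw [this]
    exact commOn_bot ω g
  rw [fr.finrank_space hs, Fintype.card_fin] at h1 h2
  obtain ⟨h, hh⟩ := exists_good (F := F) n hn (fun e => h1 (by omega)) (fun e => h2 (by omega))
  refine commOn_of_fac hs fr g hg hiso ?_
  rw [show (fr.mat g).toBlocks₁₁ = 1 from Matrix.ext fun i j => by
    rw [fr.toBlocks_mat, Matrix.of_apply, hblock, Matrix.one_apply]]
  exact fac_one hh

end CfsgLib.OreSp
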