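import Cfsg.Agent.OreSp.Frames

/-!
# Frames from Lagrangians
-/

set_option autoImplicit false

namespace CfsgLib.OreSp

open Matrix Module LinearMap

variable {F : Type*} [Field F] {V : Type*} [AddCommGroup V] [Module F V] [FiniteDimensional F V]
variable {ω : LinearMap.BilinForm F V}

theorem Sym.nondegenerate (hs : Sym ω) : LinearMap.BilinForm.Nondegenerate ω :=
  ⟨hs.nd, fun x hx => hs.nd x fun y => by rw [hs.swap, hx y, neg_zero]⟩

theorem Sym.refl (hs : Sym ω) : LinearMap.BilinForm.IsRefl ω :=
  fun x y h => by rw [hs.swap, h, neg_zero]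

theorem Sym.finrank_orth (hs : Sym ω) (W : Submodule F V) :
    finrank F (ω.orthogonal W) = finrank F V - finrank F W :=
  LinearMap.BilinForm.finrank_orthogonal hs.nondegenerate W

/-- An isotropic subspace disjoint from a Lagrangian extends to a complementary Lagrangian. -/
theorem exists_complement (hs : Sym ω) {m : ℕ} (U : Submodule F V) (hU : finrank F U = m)
    (hV : finrank F V = 2 * m) (hiso : ∀ x ∈ U, ∀ y ∈ U, ω x y = 0) :
    ∀ (k : ℕ) (L : Submodule F V), m ≤ finrank F L + k → (∀ x ∈ L, ∀ y ∈ L, ω x y = 0) → Disjoint U L →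
      ∃ W : Submodule F V, L ≤ W ∧ (∀ x ∈ W, ∀ y ∈ W, ω x y = 0) ∧ Disjoint U W ∧ m ≤ finrank F W := by
  intro k
  induction k with
  | zero => intro L hk hL hd; exact ⟨L, le_rfl, hL, hd, by omega⟩
  | succ k ih =>
    intro L hk hL hd
    by_cases hm : m ≤ finrank F L
    · exact ⟨L, le_rfl, hL, hd, hm⟩
    have hUperp : ω.orthogonal U = U := (Submodule.eq_of_le_of_finrank_eq
      (show U ≤ ω.orthogonal U from fun x hx n hn => hiso n hn x hx)
      (by rw [hs.finrank_orth, hU, hV]; omega)).symm
    have hle : L ≤ ω.orthogonal L := fun x hx n hn => hL n hn x hx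
    have hinf : ω.orthogonal L ⊓ (L ⊔ U) = L ⊔ ω.orthogonal (L ⊔ U) := by
      rw [inf_comm, sup_inf_assoc_of_le U hle]
      congr 1
      apply le_antisymm
      · rintro x ⟨hxU, hxL⟩ n hn
        obtain ⟨l, hl, u, hu, rfl⟩ := Submodule.mem_sup.1 hn
        rw [map_add, LinearMap.add_apply, hiso u hu x hxU, hxL l hl, add_zero]
      · intro x hx
        exact ⟨hUperp ▸ fun n hn => hx n (Submodule.mem_sup_right hn),
          fun n hn => hx n (Submodule.mem_sup_left hn)⟩
    have hsum : finrank F (L ⊔ U : Submodule F V) = finrank F L + m := by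
      have := Submodule.finrank_sup_add_finrank_inf_eq L U
      rw [(disjoint_iff.1 hd.symm), finrank_bot, hU] at this
      omega
    have hlt : ¬ ω.orthogonal L ≤ L ⊔ U := by
      intro hh
      rw [inf_eq_left.2 hh] at hinf
      have h1 := congrArg (fun W : Submodule F V => finrank F W) hinf
      have h2 := Submodule.finrank_add_le_finrank_add_finrank L (ω.orthogonal (L ⊔ U))
      rw [hs.finrank_orth] at h1
      rw [hs.finrank_orth, hsum] at h2
      omega
    obtain ⟨x, hx, hxn⟩ := SetLike.not_le_iff_exists.1 hlt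
    have hlt' : L < L ⊔ Submodule.span F {x} := by
      refine lt_of_le_of_ne le_sup_left fun e => hxn ?_
      exact Submodule.mem_sup_left (e ▸ Submodule.mem_sup_right (Submodule.mem_span_singleton_self x))
    have hiso' : ∀ y ∈ L ⊔ Submodule.span F {x}, ∀ z ∈ L ⊔ Submodule.span F {x}, ω y z = 0 := by
      intro y hy z hz
      obtain ⟨l, hl, a, ha, rfl⟩ := Submodule.mem_sup.1 hy
      obtain ⟨l', hl', a', ha', rfl⟩ := Submodule.mem_sup.1 hz
      obtain ⟨r, rfl⟩ := Submodule.mem_span_singleton.1 ha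
      obtain ⟨r', rfl⟩ := Submodule.mem_span_singleton.1 ha'
      simp [hL l hl l' hl', hs.alt x, show ω l x = 0 from hx l hl,
        show ω x l' = 0 by rw [hs.swap, show ω l' x = 0 from hx l' hl', neg_zero]]
    have hd' : Disjoint U (L ⊔ Submodule.span F {x}) := by
      rw [Submodule.disjoint_def]
      intro u hu hu'
      obtain ⟨l, hl, a, ha, rfl⟩ := Submodule.mem_sup.1 hu'
      obtain ⟨r, rfl⟩ := Submodule.mem_span_singleton.1 ha
      rcases eq_or_ne r 0 with rfl | hr
      · rw [zero_smul, add_zero] at hu ⊢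
        exact Submodule.disjoint_def.1 hd l hu hl
      · refine absurd ?_ hxn
        have : x = r⁻¹ • (l + r • x) - r⁻¹ • l := by
          rw [smul_add, inv_smul_smul₀ hr, add_sub_cancel_left]
        rw [this]
        exact Submodule.sub_mem _ (Submodule.smul_mem _ _ (Submodule.mem_sup_right hu))
          (Submodule.smul_mem _ _ (Submodule.mem_sup_left hl))
    obtain ⟨W, h1, h2, h3, h4⟩ := ih (L ⊔ Submodule.span F {x})
      (by have := Submodule.finrank_lt_finrank_of_lt hlt'; omega) hiso' hd'
    exact ⟨W, le_sup_left.trans h1, h2, h3, h4⟩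

/-- A frame with first half in `U` and second half orthogonal to `L`. -/
theorem exists_frame (hs : Sym ω) {m : ℕ} (U L : Submodule F V) (hU : finrank F U = m)
    (hV : finrank F V = 2 * m) (hiso : ∀ x ∈ U, ∀ y ∈ U, ω x y = 0)
    (hL : ∀ x ∈ L, ∀ y ∈ L, ω x y = 0) (hd : Disjoint U L) :
    ∃ fr : Frame ω (Fin m), fr.space = ⊤ ∧ (∀ i, fr.e i ∈ U) ∧ ∀ i, ∀ x ∈ L, ω x (fr.f i) = 0 := by
  obtain ⟨W, hLW, hW, hdW, hWm⟩ := exists_complement hs U hU hV hiso m L (by omega) hL hd
  have hUperp : ω.orthogonal U = U := (Submodule.eq_of_le_of_finrank_eq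
      (show U ≤ ω.orthogonal U from fun x hx n hn => hiso n hn x hx)
    (by rw [hs.finrank_orth, hU, hV]; omega)).symm
  let u : Basis (Fin m) F U := Module.finBasisOfFinrankEq F U hU
  let φ : W →ₗ[F] (Fin m → F) :=
    { toFun := fun w i => ω (u i : V) (w : V)
      map_add' := fun a b => by ext i; simp
      map_smul' := fun c a => by ext i; simp }
  have hinj : Function.Injective φ := by
    rw [injective_iff_map_eq_zero]
    intro w hw
    have hwU : (w : V) ∈ ω.orthogonal U := by
      intro n hn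
      have : ω n (w : V) = (ω.flip (w : V) ∘ₗ U.subtype) ⟨n, hn⟩ := rfl
      rw [this, show ω.flip (w : V) ∘ₗ U.subtype = 0 from u.ext fun i => congrFun hw i]
      rfl
    rw [hUperp] at hwU
    exact Subtype.ext (Submodule.disjoint_def.1 hdW _ hwU w.2)
  have hWdim : finrank F W = m :=
    le_antisymm (by simpa using LinearMap.finrank_le_finrank_of_injective hinj) hWm
  have hsurj : Function.Surjective φ :=
    (LinearMap.injective_iff_surjective_of_finrank_eq_finrank (by simp [hWdim])).1 hinj
  choose f hf using fun i => hsurj (Pi.single i 1)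
  let fr : Frame ω (Fin m) :=
    { e := fun i => u i
      f := fun i => f i
      ee := fun i j => hiso _ (u i).2 _ (u j).2
      ff := fun i j => hW _ (f i).2 _ (f j).2
      ef := fun i j => by
        have h := congrFun (hf j) i
        rw [Pi.single_apply] at h
        exact h }
  refine ⟨fr, Submodule.eq_top_of_finrank_eq (by rw [fr.finrank_space hs, hV, Fintype.card_fin]),
    fun i => (u i).2, fun i x hx => hW x (hLW hx) _ (f i).2⟩

/-- A Lagrangian of `P` on which `T - 1` is isotropic gives upper left block one. -/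
theorem oneAt_of_lag (hs : Sym ω) {T : Module.End F V} {P : Submodule F V} (hP : Nd ω P)
    (hTP : ∀ x ∈ P, T x ∈ P) (U : Submodule F V) (hUP : U ≤ P)
    (hiso : ∀ x ∈ U, ∀ y ∈ U, ω x y = 0) (hdim : finrank F P = 2 * finrank F U)
    (hfix : ∀ x ∈ U, T x - x ∈ U → T x - x = 0)
    (hT : ∀ x ∈ U, ∀ y ∈ U, ω (T x - x) (T y - y) = 0) : OneAt ω T P := by
  let ω' : LinearMap.BilinForm F P := ω.compl₁₂ P.subtype P.subtype
  have hs' : Sym ω' := ⟨fun x => hs.alt x, fun x hx => Subtype.ext (hP x x.2 fun y hy => hx ⟨y, hy⟩)⟩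
  let U' : Submodule F P := U.comap P.subtype
  let D : P →ₗ[F] P :=
    (T - 1 : Module.End F V).restrict fun x hx => show T x - x ∈ P from P.sub_mem (hTP x hx) hx
  have hU' : finrank F U' = finrank F U := (Submodule.comapSubtypeEquivOfLe hUP).finrank_eq
  obtain ⟨fr, hsp, he, hf⟩ := exists_frame hs' U' (U'.map D) hU' hdim
    (fun x hx y hy => hiso x hx y hy)
    (by
      rintro _ ⟨x, hx, rfl⟩ _ ⟨y, hy, rfl⟩
      exact hT x hx y hy)
    (by
      rw [Submodule.disjoint_def]
      rintro _ hu ⟨x, hx, rfl⟩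
      exact Subtype.ext (hfix x hx hu))
  let fr' : Frame ω (Fin (finrank F U)) :=
    { e := fun i => fr.e i
      f := fun i => fr.f i
      ee := fr.ee
      ff := fr.ff
      ef := fr.ef }
  refine ⟨_, fr', ?_, fun i j => ?_⟩
  · have hb : fr'.b = P.subtype ∘ fr.b := by funext a; cases a <;> rfl
    rw [Frame.space, hb, Set.range_comp, ← Submodule.map_span]
    show fr.space.map P.subtype = P
    rw [hsp, Submodule.map_subtype_top]
  · have h := hf i (D (fr.e j)) ⟨_, he j, rfl⟩
    change ω (T (fr.e j : V) - (fr.e j : V)) (fr.f i : V) = 0 at h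
    rw [map_sub, LinearMap.sub_apply, sub_eq_zero] at h
    show ω (T (fr.e j : V)) (fr.f i : V) = _
    rw [h]
    exact (fr.ef j i).trans (by simp [eq_comm])

end CfsgLib.OreSp
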