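import Mathlib

/-!
# The exceptional four-dimensional block over three elements
-/

set_option autoImplicit false

namespace CfsgLib.OreSp

open Matrix

/-- The block sum of a transvection-like matrix and `-1`. -/
def small {R : Type*} [CommRing R] (x y : R) : Matrix (Fin 2 ⊕ Fin 2) (Fin 2 ⊕ Fin 2) R :=
  fromBlocks !![1, 0; 0, -1] !![y, 0; 0, 0] !![x, 0; 0, 0] !![1 + x * y, 0; 0, -1]

theorem small_zmod (x y : ZMod 3) : ∃ A B : Matrix (Fin 2 ⊕ Fin 2) (Fin 2 ⊕ Fin 2) (ZMod 3),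
    A * J (Fin 2) (ZMod 3) * Aᵀ = J (Fin 2) (ZMod 3) ∧
      B * J (Fin 2) (ZMod 3) * Bᵀ = J (Fin 2) (ZMod 3) ∧ small x y * B * A = A * B := by
  fin_cases x <;> fin_cases y
  · exact ⟨fromBlocks !![2, 0; 0, 1] !![2, 0; 0, 2] !![2, 0; 0, 2] !![1, 0; 0, 2],
      fromBlocks !![0, 1; 0, 0] !![0, 0; 1, 0] !![0, 1; 2, 0] !![0, 1; 2, 0], by decide⟩
  · exact ⟨fromBlocks !![1, 2; 0, 1] !![1, 1; 0, 2] !![1, 0; 1, 1] !![2, 0; 2, 0],
      fromBlocks !![0, 0; 2, 2] !![2, 1; 1, 2] !![2, 1; 1, 1] !![2, 0; 0, 2], by decide⟩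
  · exact ⟨fromBlocks !![1, 2; 1, 1] !![1, 2; 1, 1] !![2, 2; 2, 1] !![1, 0; 1, 0],
      fromBlocks !![1, 2; 0, 2] !![2, 0; 1, 1] !![1, 1; 1, 2] !![1, 1; 1, 2], by decide⟩
  · exact ⟨fromBlocks !![2, 0; 0, 0] !![0, 0; 0, 1] !![1, 0; 1, 2] !![2, 2; 0, 0],
      fromBlocks !![2, 2; 0, 2] !![1, 2; 2, 0] !![0, 1; 1, 0] !![0, 0; 2, 0], by decide⟩
  · exact ⟨fromBlocks !![0, 0; 1, 0] !![0, 1; 2, 0] !![0, 2; 2, 0] !![0, 1; 2, 0],
      fromBlocks !![2, 1; 1, 2] !![0, 0; 2, 2] !![2, 2; 0, 1] !![2, 0; 0, 0], by decide⟩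
  · exact ⟨fromBlocks !![1, 2; 2, 1] !![1, 0; 1, 2] !![0, 1; 0, 1] !![2, 1; 1, 1],
      fromBlocks !![2, 2; 1, 1] !![2, 1; 0, 0] !![1, 0; 0, 2] !![0, 0; 0, 1], by decide⟩
  · exact ⟨fromBlocks !![2, 0; 2, 2] !![1, 2; 0, 0] !![2, 1; 2, 1] !![1, 2; 2, 0],
      fromBlocks !![0, 0; 0, 0] !![2, 0; 2, 1] !![1, 1; 0, 2] !![2, 0; 1, 2], by decide⟩
  · exact ⟨fromBlocks !![2, 0; 1, 1] !![0, 1; 2, 1] !![0, 1; 1, 2] !![1, 0; 1, 1],
      fromBlocks !![1, 2; 1, 1] !![2, 1; 1, 1] !![0, 2; 0, 1] !![1, 1; 0, 2], by decide⟩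
  · exact ⟨fromBlocks !![1, 0; 0, 0] !![0, 1; 0, 2] !![1, 0; 0, 1] !![1, 1; 1, 1],
      fromBlocks !![0, 2; 1, 0] !![1, 1; 0, 2] !![1, 1; 1, 2] !![2, 0; 2, 0], by decide⟩

/-- Over a field with three elements the block is a commutator. -/
theorem small_comm {F : Type*} [Field F] [Fintype F] (hc : Fintype.card F = 3)
    (G : symplecticGroup (Fin 2) F) (x y : F)
    (hG : (G : Matrix (Fin 2 ⊕ Fin 2) (Fin 2 ⊕ Fin 2) F) = small x y) :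
    ∃ A B : symplecticGroup (Fin 2) F, G = A * B * A⁻¹ * B⁻¹ := by
  haveI : Fact (Nat.Prime 3) := ⟨Nat.prime_three⟩
  haveI : CharP F 3 := charP_of_card_eq_prime (by simpa using hc)
  let f : ZMod 3 →+* F := ZMod.castHom dvd_rfl F
  have hf : Function.Bijective f :=
    (Fintype.bijective_iff_injective_and_card f).2 ⟨f.injective, by rw [ZMod.card, hc]⟩
  obtain ⟨x', rfl⟩ := hf.2 x
  obtain ⟨y', rfl⟩ := hf.2 y
  obtain ⟨A, B, hA, hB, h⟩ := small_zmod x' y'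
  have hJ : (J (Fin 2) (ZMod 3)).map f = J (Fin 2) F := by
    simp [J, fromBlocks_map, Matrix.map_neg, Matrix.map_one, Matrix.map_zero]
  have hmem : ∀ M : Matrix (Fin 2 ⊕ Fin 2) (Fin 2 ⊕ Fin 2) (ZMod 3),
      M * J (Fin 2) (ZMod 3) * Mᵀ = J (Fin 2) (ZMod 3) → M.map f ∈ symplecticGroup (Fin 2) F := by
    intro M hM
    rw [SymplecticGroup.mem_iff, ← hJ, ← Matrix.transpose_map, ← Matrix.map_mul, ← Matrix.map_mul, hM]
  have hs : (small x' y').map f = small (f x') (f y') := by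
    ext i k
    rcases i with i | i <;> rcases k with k | k <;> fin_cases i <;> fin_cases k <;> simp [small]
  refine ⟨⟨A.map f, hmem A hA⟩, ⟨B.map f, hmem B hB⟩, ?_⟩
  rw [eq_mul_inv_iff_mul_eq, eq_mul_inv_iff_mul_eq]
  refine Subtype.ext ?_
  show (G : Matrix (Fin 2 ⊕ Fin 2) (Fin 2 ⊕ Fin 2) F) * B.map f * A.map f = A.map f * B.map f
  rw [hG, ← hs, ← Matrix.map_mul, ← Matrix.map_mul, ← Matrix.map_mul, h]

end CfsgLib.OreSp
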