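import Cfsg.Agent.OreSp.Split
import Cfsg.Agent.OreSp.Small

/-!
# Every isometry of a symplectic space is a commutator
-/

set_option autoImplicit false

namespace CfsgLib.OreSp

open Module LinearMap Matrix

variable {F : Type*} [Field F] {V : Type*} [AddCommGroup V] [Module F V] [FiniteDimensional F V]
variable {ω : LinearMap.BilinForm F V} {g g' : Module.End F V}

/-- The part of an isometry without upper left block one. -/
def Rest (ω : LinearMap.BilinForm F V) (g : Module.End F V) (Q : Submodule F V) : Prop :=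
  Q = ⊥ ∨ ∃ Q₁ R : Submodule F V, Q₁ ⊔ R = Q ∧ Perp ω Q₁ R ∧ (∀ y ∈ Q₁, g y ∈ Q₁) ∧
    (∀ y ∈ R, g y ∈ R) ∧ WPiece ω g Q₁ ∧ CommOn ω g R

theorem Rest.commOn {Q : Submodule F V} (hs : Sym ω) (h : Rest ω g Q) : CommOn ω g Q := by
  rcases h with rfl | ⟨Q₁, R, rfl, hperp, -, -, hw, hR⟩
  · exact commOn_bot ω g
  · obtain ⟨-, -, -, hc, -, -⟩ := hw
    exact hc.sup hs hR hperp

theorem sup_inv {A B : Submodule F V} (hA : ∀ y ∈ A, g y ∈ A) (hB : ∀ y ∈ B, g y ∈ B) :
    ∀ y ∈ A ⊔ B, g y ∈ A ⊔ B := fun y hy => by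
  obtain ⟨a, ha, b, hb, rfl⟩ := Submodule.mem_sup.1 hy
  rw [map_add]
  exact Submodule.add_mem_sup (hA a ha) (hB b hb)

theorem Perp.sup_left {A B C : Submodule F V} (hA : Perp ω A C) (hB : Perp ω B C) :
    Perp ω (A ⊔ B) C := fun y hy z hz => by
  obtain ⟨a, ha, b, hb, rfl⟩ := Submodule.mem_sup.1 hy
  rw [map_add, LinearMap.add_apply, hA a ha z hz, hB b hb z hz, add_zero]

theorem exists_dec [Fintype F] (hs : Sym ω) (hg : Isom ω g g') :
    ∀ (n : ℕ) (P : Submodule F V), finrank F P ≤ n → Nd ω P → (∀ y ∈ P, g y ∈ P) →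
      ∃ P₀ Q : Submodule F V, P₀ ⊔ Q = P ∧ Perp ω P₀ Q ∧ (∀ y ∈ P₀, g y ∈ P₀) ∧
        (∀ y ∈ Q, g y ∈ Q) ∧ OneAt ω g P₀ ∧ Rest ω g Q := by
  intro n
  induction n with
  | zero =>
    intro P hn _ _
    have : P = ⊥ := Submodule.finrank_eq_zero.1 (by omega)
    exact ⟨⊥, ⊥, by rw [this, sup_idem], fun x hx y _ => by simp [(Submodule.mem_bot F).1 hx],
      fun y hy => by simp [(Submodule.mem_bot F).1 hy],
      fun y hy => by simp [(Submodule.mem_bot F).1 hy], oneAt_bot g, .inl rfl⟩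
  | succ n ih =>
    intro P hn hP hinv
    by_cases hne : P = ⊥
    · exact ih P (by rw [hne, finrank_bot]; omega) hP hinv
    obtain ⟨A, hAP, hA0, hA, hAinv, hkind⟩ := exists_good_piece hs hg hP hinv hne
    set B := P ⊓ ω.orthogonal A with hB
    have hperp : Perp ω A B := fun x hx y hy => hy.2 x hx
    have hsup : A ⊔ B = P := by
      refine le_antisymm (sup_le hAP inf_le_left) fun x hx => ?_
      let φ := LinearMap.BilinForm.toDual _ (nd_sym hs hA).nondegenerate
      let a := φ.symm ((ω x) ∘ₗ A.subtype)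
      refine Submodule.mem_sup.2 ⟨a, a.2, x - a, ⟨P.sub_mem hx (hAP a.2), fun y hy => ?_⟩,
        add_sub_cancel _ _⟩
      have h : ω (a : V) y = ω x y :=
        LinearMap.BilinForm.apply_toDual_symm_apply (B := ω.compl₁₂ A.subtype A.subtype)
          (hB := (nd_sym hs hA).nondegenerate) ((ω x) ∘ₗ A.subtype) ⟨y, hy⟩
      show ω y (x - a) = 0
      rw [hs.swap, map_sub, LinearMap.sub_apply, h, sub_self, neg_zero]
    have hBnd : Nd ω B := fun x hx h => hP x hx.1 fun y hy => by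
      rw [← hsup] at hy
      obtain ⟨a, ha, b, hb, rfl⟩ := Submodule.mem_sup.1 hy
      rw [map_add, (hperp.symm hs) x hx a ha, h b hb, add_zero]
    have hBinv : ∀ y ∈ B, g y ∈ B := fun y hy => ⟨hinv y hy.1, fun a ha => by
      show ω a (g y) = 0
      rw [← hg.symm.adj]
      exact hy.2 _ (hg.map_mem hAinv a ha)⟩
    have hlt : B < P := lt_of_le_of_ne inf_le_left fun e => hA0 ((Submodule.eq_bot_iff A).2 fun a ha =>
      hA a ha fun y hy => hperp.symm hs a (e.symm ▸ hAP ha) y hy)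
    obtain ⟨P₀, Q, hPQ, hperp', hP₀, hQ, hone, hrest⟩ :=
      ih B (by have := Submodule.finrank_lt_finrank_of_lt hlt; omega) hBnd hBinv
    have hle0 : P₀ ≤ B := hPQ ▸ le_sup_left
    have hleQ : Q ≤ B := hPQ ▸ le_sup_right
    have p0 : Perp ω A P₀ := fun x hx y hy => hperp x hx y (hle0 hy)
    have pQ : Perp ω A Q := fun x hx y hy => hperp x hx y (hleQ hy)
    rcases hkind with h | h
    · exact ⟨A ⊔ P₀, Q, by rw [sup_assoc, hPQ, hsup], pQ.sup_left hperp', sup_inv hAinv hP₀, hQ,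
        h.sup hs hone p0 hAinv hP₀, hrest⟩
    · exact ⟨P₀, A ⊔ Q, by rw [← sup_assoc, sup_comm P₀, sup_assoc, hPQ, hsup],
        fun x hx y hy => by
          obtain ⟨a, ha, q, hq, rfl⟩ := Submodule.mem_sup.1 hy
          rw [map_add, (p0.symm hs) x hx a ha, hperp' x hx q hq, add_zero],
        hP₀, sup_inv hAinv hQ, hone, .inr ⟨A, Q, rfl, pQ, hAinv, hQ, h, hrest.commOn hs⟩⟩

theorem fixed_of_deg (hs : Sym ω) (fr : Frame ω (Fin 1)) (hg : ∀ x ∈ fr.space, g x ∈ fr.space)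
    (h1 : ω (g (fr.e 0)) (fr.f 0) = 1) (h : ∀ x ∈ fr.space, ω x (g x) = 0) :
    ∀ x ∈ fr.space, g x = x := by
  have hb : ∀ (a : Fin 1 ⊕ Fin 1), fr.coord (g (fr.b a)) = Pi.single a 1 := by
    have he : fr.e 0 ∈ fr.space := fr.b_mem (.inl 0)
    have hf : fr.f 0 ∈ fr.space := fr.b_mem (.inr 0)
    have hee := h _ he
    have hff := h _ hf
    have hef := h _ (fr.space.add_mem he hf)
    simp only [map_add, LinearMap.add_apply, hee, hff, zero_add, add_zero] at hef
    rintro (i | i) <;> rw [Subsingleton.elim i 0] <;> funext a <;> rcases a with k | k <;>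
      rw [Subsingleton.elim k 0]
    · simpa [Frame.coord, Frame.b] using h1
    · simpa [Frame.coord, Frame.b] using hee
    · have : ω (g (fr.f 0)) (fr.f 0) = 0 := by rw [hs.swap, hff, neg_zero]
      simpa [Frame.coord, Frame.b] using this
    · have : ω (fr.e 0) (g (fr.f 0)) = 1 := by
        have := hs.swap (g (fr.e 0)) (fr.f 0)
        linear_combination hef - this + h1
      simpa [Frame.coord, Frame.b] using this
  intro x hx
  induction hx using Submodule.span_induction with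
  | mem z hz =>
    obtain ⟨a, rfl⟩ := hz
    rw [← fr.vec_coord hs (hg _ (fr.b_mem a)), hb, fr.vec_single]
  | zero => simp
  | add y z _ _ e1 e2 => rw [map_add, e1, e2]
  | smul c y _ e1 => rw [map_smul, e1]

theorem commOn_of_eq_id {P : Submodule F V} (h : ∀ x ∈ P, g x = x) : CommOn ω g P :=
  have h1 : IsLoc ω P (1 : Module.End F V) := ⟨fun _ _ => rfl, fun _ _ => rfl, fun _ h => h⟩
  ⟨1, 1, 1, 1, h1, h1, h1, h1, mul_one _, mul_one _, mul_one _, mul_one _, fun x hx => h x hx⟩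

theorem commOn_neg_double [Fintype F] (hs : Sym ω) (hc : 3 ≤ Fintype.card F) {P : Submodule F V}
    {r : ℕ} (hr : 2 ≤ r) (hdim : finrank F P = 4 * r) (h : OneAt ω (-g) P)
    (hgP : ∀ x ∈ P, g x ∈ P) (hiso : ∀ x y, ω (g x) (g y) = ω x y) : CommOn ω g P := by
  obtain ⟨n, fr, rfl, hblock⟩ := h
  rw [fr.finrank_space hs, Fintype.card_fin] at hdim
  obtain rfl : n = r + r := by omega
  obtain ⟨h, hh⟩ := exists_good (F := F) r (by omega) (fun e => absurd e (by omega)) (fun _ => hc)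
  let fr' := fr.reindex finSumFinEquiv
  have hsp : fr'.space = fr.space := fr.space_reindex _
  rw [← hsp]
  refine commOn_of_fac hs fr' g (hsp.symm ▸ hgP) hiso ?_
  rw [show (fr'.mat g).toBlocks₁₁ = -1 from Matrix.ext fun i j => by
    have h2 := hblock (finSumFinEquiv i) (finSumFinEquiv j)
    rw [LinearMap.neg_apply, map_neg, LinearMap.neg_apply, neg_eq_iff_eq_neg] at h2
    rw [fr'.toBlocks_mat, Matrix.of_apply, Matrix.neg_apply, Matrix.one_apply]
    simp only [fr', Frame.reindex, h2, EmbeddingLike.apply_eq_iff_eq]]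
  exact fac_neg_one hh

theorem commOn_small [Fintype F] (hs : Sym ω) (hc : Fintype.card F = 3) (fr : Frame ω (Fin 1))
    (fr₁ : Frame ω (Fin 1)) (h1 : ω (g (fr.e 0)) (fr.f 0) = 1) (hperp : Perp ω fr.space fr₁.space)
    (hg : ∀ x ∈ fr.space, g x ∈ fr.space) (hg₁ : ∀ x ∈ fr₁.space, g x = -x)
    (hiso : ∀ x y, ω (g x) (g y) = ω x y) : CommOn ω g (fr.space ⊔ fr₁.space) := by
  let fr2 := (fr.sum hs fr₁ fun a c => hperp _ (fr.b_mem a) _ (fr₁.b_mem c)).reindex finSumFinEquiv.symm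
  have hsp : fr2.space = fr.space ⊔ fr₁.space := by
    rw [Frame.space_reindex]
    exact fr.space_sum hs fr₁ _
  have hinv : ∀ x ∈ fr2.space, g x ∈ fr2.space := by
    rw [hsp]
    exact sup_inv hg fun x hx => by rw [hg₁ x hx]; exact fr₁.space.neg_mem hx
  have he : fr2.e = ![fr.e 0, fr₁.e 0] := by
    funext i; fin_cases i <;> rfl
  have hf : fr2.f = ![fr.f 0, fr₁.f 0] := by
    funext i; fin_cases i <;> rfl
  set x := ω (fr.e 0) (g (fr.e 0))
  set y := ω (g (fr.f 0)) (fr.f 0)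
  have hz : ω (fr.e 0) (g (fr.f 0)) = 1 + x * y := by
    have h := hiso (fr.e 0) (fr.f 0)
    conv_lhs at h => rw [← fr.vec_coord hs (hg (fr.e 0) (fr.b_mem (.inl 0)))]
    rw [Frame.vec, Fintype.linearCombination_apply, Fintype.sum_sum_type] at h
    simp only [Frame.coord, LinearMap.coe_mk, AddHom.coe_mk, Fin.sum_univ_one, Sum.elim_inl,
      Sum.elim_inr, Frame.b, map_add, map_smul, LinearMap.add_apply, LinearMap.smul_apply, h1,
      fr.ef, if_pos, smul_eq_mul, hs.swap (g (fr.f 0)) (fr.f 0)] at h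
    simp only [x, y]
    linear_combination h
  have hmat : fr2.mat g = small x y := by
    have a0 : ∀ u ∈ fr.space, ∀ v ∈ fr₁.space, ω (g u) v = 0 ∧ ω v (g u) = 0 := fun u hu v hv =>
      ⟨hperp _ (hg u hu) v hv, (hperp.symm hs) v hv _ (hg u hu)⟩
    have m0 : fr.e 0 ∈ fr.space := fr.b_mem (.inl 0)
    have m0' : fr.f 0 ∈ fr.space := fr.b_mem (.inr 0)
    have m1 : fr₁.e 0 ∈ fr₁.space := fr₁.b_mem (.inl 0)
    have m1' : fr₁.f 0 ∈ fr₁.space := fr₁.b_mem (.inr 0)
    have b1 := hg₁ _ m1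
    have b1' := hg₁ _ m1'
    have q : ∀ u ∈ fr₁.space, ∀ v ∈ fr.space, ω u v = 0 ∧ ω v u = 0 := fun u hu v hv =>
      ⟨(hperp.symm hs) u hu v hv, hperp v hv u hu⟩
    refine Matrix.ext fun a c => ?_
    rcases a with i | i <;> rcases c with k | k <;> fin_cases i <;> fin_cases k <;>
      simp [Frame.mat, Frame.coord, Frame.b, he, hf, small, h1, hz, x, y, b1, b1',
        (a0 _ m0 _ m1').1, (a0 _ m0' _ m1').1, (a0 _ m0 _ m1).2, (a0 _ m0' _ m1).2,
        (q _ m1 _ m0').1, (q _ m1' _ m0').1, (q _ m1 _ m0).2, (q _ m1' _ m0).2,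
        fr₁.ee, fr₁.ef, fr₁.ff]
  obtain ⟨A, B, h⟩ := small_comm hc ⟨_, fr2.mat_mem hs g hinv hiso⟩ x y hmat
  rw [← hsp]
  exact fr2.commOn hs g hinv A B (congrArg Subtype.val h)

/-- Every isometry is a commutator, outside the three exceptions. -/
theorem commOn_top [Fintype F] (hs : Sym ω) (hg : Isom ω g g')
    (h1 : finrank F V = 2 → 4 ≤ Fintype.card F) (h2 : finrank F V = 4 → 3 ≤ Fintype.card F) :
    CommOn ω g ⊤ := by
  obtain ⟨P₀, Q, hsup, hperp, hP₀, hQ, hone, hrest⟩ :=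
    exists_dec hs hg _ ⊤ le_rfl (fun x _ h => hs.nd x fun y => h y trivial) (fun _ _ => trivial)
  rcases hrest with rfl | hQne
  · rw [sup_bot_eq] at hsup
    subst hsup
    exact commOn_of_oneAt hs hone hP₀ hg.iso (fun e => h1 (by rwa [finrank_top] at e))
      (fun e => h2 (by rwa [finrank_top] at e))
  obtain ⟨Q₁, R, rfl, hQR, hQ₁inv, hRinv, hw, hR⟩ := hQne
  obtain ⟨htwo, r, hr, hc₁, hone₁, hid⟩ := hw
  have hc2 : Fintype.card F ≠ 2 := fun e => htwo (by
    haveI : Fact (Nat.Prime 2) := ⟨Nat.prime_two⟩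
    haveI : CharP F 2 := charP_of_card_eq_prime (by simpa using e)
    exact CharTwo.two_eq_zero)
  have hc3 : 3 ≤ Fintype.card F := by
    have := Fintype.one_lt_card (α := F); omega
  rw [← hsup]
  by_cases hbig : finrank F P₀ = 2 → 4 ≤ Fintype.card F
  · exact (commOn_of_oneAt hs hone hP₀ hg.iso hbig fun _ => hc3).sup hs (hc₁.sup hs hR hQR) hperp
  push Not at hbig
  obtain ⟨hd0, hc⟩ := hbig
  have hp1 : Perp ω P₀ Q₁ := fun x hx y hy => hperp x hx y (Submodule.mem_sup_left hy)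
  have hp2 : Perp ω (P₀ ⊔ Q₁) R :=
    (show Perp ω P₀ R from fun x hx y hy => hperp x hx y (Submodule.mem_sup_right hy)).sup_left hQR
  rw [← sup_assoc]
  refine CommOn.sup hs ?_ hR hp2
  obtain ⟨n, fr, rfl, hblock⟩ := hone
  obtain rfl : n = 1 := by rw [fr.finrank_space hs, Fintype.card_fin] at hd0; omega
  have h11 : ω (g (fr.e 0)) (fr.f 0) = 1 := by simpa using hblock 0 0
  rcases Nat.eq_zero_or_pos r with rfl | hrpos
  · obtain ⟨k, fr₁, rfl, -⟩ := hone₁
    obtain rfl : k = 1 := by rw [fr₁.finrank_space hs, Fintype.card_fin] at hr; omega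
    exact commOn_small hs (by omega) fr fr₁ h11 hp1 hP₀ (hid rfl) hg.iso
  by_cases hdeg : ∀ x ∈ fr.space, ω x (g x) = 0
  · exact (commOn_of_eq_id (fixed_of_deg hs fr hP₀ h11 hdeg)).sup hs hc₁ hp1
  push Not at hdeg
  obtain ⟨e, he, hee⟩ := hdeg
  have hnd : Nd ω fr.space := fun x hx h => by
    rw [← fr.vec_coord hs hx, fr.coord_eq_zero hs h, map_zero]
  have he0 : e ≠ 0 := fun h => hee (by simp [h])
  have hneg : OneAt ω (-g) fr.space := by
    refine oneAt_of_lag hs hnd (fun x hx => fr.space.neg_mem (hP₀ x hx)) (Submodule.span F {e})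
      ((Submodule.span_singleton_le_iff_mem _ _).2 he) (fun x hx y hy => ?_)
      (by rw [finrank_span_singleton he0, hd0]) (fun x hx hd => ?_) (fun x hx y hy => ?_)
    · obtain ⟨a, rfl⟩ := Submodule.mem_span_singleton.1 hx
      obtain ⟨b, rfl⟩ := Submodule.mem_span_singleton.1 hy
      simp [hs.alt]
    · obtain ⟨a, rfl⟩ := Submodule.mem_span_singleton.1 hx
      obtain ⟨b, hb⟩ := Submodule.mem_span_singleton.1 hd
      have h := congrArg (ω e) hb
      simp [hs.alt, hee] at h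
      simp [h]
    · obtain ⟨a, rfl⟩ := Submodule.mem_span_singleton.1 hx
      obtain ⟨b, rfl⟩ := Submodule.mem_span_singleton.1 hy
      simp only [map_smul, ← smul_sub, LinearMap.smul_apply, hs.alt, smul_zero]
  have hdim : finrank F (fr.space ⊔ Q₁ : Submodule F V) = 4 * (r + 1) := by
    have h := Submodule.finrank_sup_add_finrank_inf_eq fr.space Q₁
    have hinf : fr.space ⊓ Q₁ = ⊥ := (Submodule.eq_bot_iff _).2 fun x hx =>
      hnd x hx.1 fun y hy => (hp1.symm hs) x hx.2 y hy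
    rw [hinf, finrank_bot, hd0, hr] at h
    omega
  refine commOn_neg_double hs hc3 (r := r + 1) (by omega) hdim ?_ (sup_inv hP₀ hQ₁inv) hg.iso
  exact hneg.sup hs hone₁ hp1 (fun x hx => fr.space.neg_mem (hP₀ x hx))
    (fun x hx => Q₁.neg_mem (hQ₁inv x hx))

end CfsgLib.OreSp
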