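import Cfsg.Agent.OreSp.Lagrangian

/-!
# Elements inverted by a square root of minus one

All symplectic square roots of `-1` are conjugate in odd characteristic, so an element `g` inverted by
one of them, `a`, is the commutator of `a⁻¹` and an element carrying `a` to `a g`.
-/

set_option autoImplicit false

namespace CfsgLib.OreSp

open Matrix Module LinearMap

variable {F : Type*} [Field F] {V : Type*} [AddCommGroup V] [Module F V] [FiniteDimensional F V]
variable {ω : LinearMap.BilinForm F V}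

theorem exists_norm [Fintype F] (h2 : (2 : F) ≠ 0) (c : F) : ∃ s t : F, s ^ 2 + t ^ 2 = c := by
  have hodd : Fintype.card F % 2 = 1 := FiniteField.odd_card_of_char_ne_two fun h => by
    haveI := ringChar.eq_iff.1 h
    exact h2 (CharP.cast_eq_zero F 2)
  obtain ⟨s, t, h⟩ := FiniteField.exists_root_sum_quadratic (R := F) (f := Polynomial.X ^ 2)
    (g := Polynomial.X ^ 2 - Polynomial.C c) (Polynomial.degree_X_pow 2)
    (Polynomial.degree_X_pow_sub_C (by norm_num) c) hodd
  simp at h
  exact ⟨s, t, by linear_combination h⟩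

/-- A complex structure on a nondegenerate subspace has an adapted frame. -/
theorem exists_frame_cx [Fintype F] (hs : Sym ω) (h2 : (2 : F) ≠ 0) (a : Module.End F V) :
    ∀ (d : ℕ) (P : Submodule F V), finrank F P ≤ d → Nd ω P → (∀ x ∈ P, a x ∈ P) →
      (∀ x ∈ P, a (a x) = -x) → (∀ x ∈ P, ∀ y ∈ P, ω (a x) (a y) = ω x y) →
      ∃ (n : ℕ) (fr : Frame ω (Fin n)), fr.space = P ∧ ∀ i, a (fr.e i) = fr.f i := by
  intro d
  induction d with
  | zero =>
    intro P hd _ _ _ _
    exact ⟨0, Frame.empty ω, by rw [Frame.space_empty, Submodule.finrank_eq_zero.1 (Nat.le_zero.1 hd)],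
      fun i => i.elim0⟩
  | succ d ih =>
    intro P hd hP haP ha2 hiso
    rcases eq_or_ne P ⊥ with rfl | hne
    · exact ⟨0, Frame.empty ω, Frame.space_empty, fun i => i.elim0⟩
    have hsym : ∀ x ∈ P, ∀ y ∈ P, ω y (a x) = ω x (a y) := by
      intro x hx y hy
      rw [← hiso y hy (a x) (haP x hx), ha2 x hx, map_neg, hs.swap (a y) x]
    obtain ⟨x₀, hx₀, hc⟩ : ∃ x ∈ P, ω x (a x) ≠ 0 := by
      by_contra h
      push Not at h
      obtain ⟨x, hx, hx0⟩ := P.ne_bot_iff.1 hne
      refine hx0 (hP x hx fun z hz => ?_)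
      have key : ∀ y ∈ P, ω x (a y) = 0 := by
        intro y hy
        have e := h (x + y) (P.add_mem hx hy)
        simp only [map_add, LinearMap.add_apply, h x hx, h y hy, hsym x hx y hy, zero_add, add_zero] at e
        exact (mul_eq_zero.1 (show (2 : F) * ω x (a y) = 0 by linear_combination e)).resolve_left h2
      have e := key (-(a z)) (P.neg_mem (haP z hz))
      rwa [map_neg, ha2 z hz, neg_neg] at e
    obtain ⟨s, t, hst⟩ := exists_norm h2 (ω x₀ (a x₀))⁻¹
    set x := s • x₀ + t • a x₀ with hxdef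
    have hx : x ∈ P := P.add_mem (P.smul_mem _ hx₀) (P.smul_mem _ (haP _ hx₀))
    have hax : a x ∈ P := haP x hx
    have hx1 : ω x (a x) = 1 := by
      have e1 : a x = s • a x₀ + t • (-x₀) := by rw [hxdef, map_add, map_smul, map_smul, ha2 x₀ hx₀]
      rw [e1, hxdef]
      simp only [map_add, map_smul, map_neg, LinearMap.add_apply, LinearMap.smul_apply, hs.alt, smul_eq_mul,
        smul_neg, LinearMap.neg_apply]
      rw [hs.swap x₀ (a x₀)]
      have := congrArg (fun r => r * ω x₀ (a x₀)) hst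
      simp only [inv_mul_cancel₀ hc] at this
      linear_combination this
    let f1 : Frame ω (Fin 1) :=
      { e := fun _ => x
        f := fun _ => a x
        ee := fun _ _ => hs.alt x
        ff := fun _ _ => hs.alt (a x)
        ef := fun i j => by rw [Subsingleton.elim i j, if_pos rfl, hx1] }
    set P' : Submodule F V := P ⊓ LinearMap.ker (ω.flip x) ⊓ LinearMap.ker (ω.flip (a x)) with hP'
    have hmem : ∀ y, y ∈ P' ↔ y ∈ P ∧ ω y x = 0 ∧ ω y (a x) = 0 := fun y => by
      simp [hP', Submodule.mem_inf, and_assoc]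
    have hproj : ∀ y ∈ P, y - ω y (a x) • x + ω y x • a x ∈ P' := by
      intro y hy
      refine (hmem _).2 ⟨P.add_mem (P.sub_mem hy (P.smul_mem _ hx)) (P.smul_mem _ hax), ?_, ?_⟩
      · simp [hs.alt, hs.swap x (a x), hx1]
      · simp [hs.alt, hx1]
    have hlt : finrank F P' < finrank F P := by
      refine Submodule.finrank_lt_finrank_of_lt (lt_of_le_of_ne (fun y hy => ((hmem y).1 hy).1) fun e => ?_)
      have := ((hmem x).1 (by rw [e]; exact hx)).2.2
      rw [hx1] at this
      exact one_ne_zero this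
    obtain ⟨n, fr, hfr, hfe⟩ := ih P' (by omega)
      (fun y hy h => hP y ((hmem y).1 hy).1 fun z hz => by
        have e := h _ (hproj z hz)
        have hy' := ((hmem y).1 hy).2
        simpa [map_add, map_sub, map_smul, hy'.1, hy'.2] using e)
      (fun y hy => by
        obtain ⟨h1, h3, h4⟩ := (hmem y).1 hy
        refine (hmem _).2 ⟨haP y h1, ?_, ?_⟩
        · rw [hs.swap, hsym y h1 x hx, h4, neg_zero]
        · rw [hiso y h1 x hx, h3])
      (fun y hy => ha2 y ((hmem y).1 hy).1)
      (fun y hy z hz => hiso y ((hmem y).1 hy).1 z ((hmem z).1 hz).1)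
    have hperp : ∀ i c, ω (Sum.elim f1.e f1.f i) (Sum.elim fr.e fr.f c) = 0 := by
      intro i c
      have hc' : fr.b c ∈ P' := hfr ▸ fr.b_mem c
      obtain ⟨-, h3, h4⟩ := (hmem _).1 hc'
      rcases i with i | i
      · show ω x (fr.b c) = 0
        rw [hs.swap, h3, neg_zero]
      · show ω (a x) (fr.b c) = 0
        rw [hs.swap, h4, neg_zero]
    refine ⟨1 + n, (f1.sum hs fr hperp).reindex finSumFinEquiv.symm, ?_, fun i => ?_⟩
    · rw [Frame.space_reindex, Frame.space_sum, hfr]
      apply le_antisymm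
      · refine sup_le (Submodule.span_le.2 ?_) fun y hy => ((hmem y).1 hy).1
        rintro _ ⟨i | i, rfl⟩
        exacts [hx, hax]
      · intro y hy
        refine Submodule.mem_sup.2 ⟨ω y (a x) • x - ω y x • a x, ?_, _, hproj y hy, by abel⟩
        exact Submodule.sub_mem _ (Submodule.smul_mem _ _ (f1.b_mem (.inl 0)))
          (Submodule.smul_mem _ _ (f1.b_mem (.inr 0)))
    · obtain ⟨i, rfl⟩ := finSumFinEquiv.surjective i
      rcases i with i | i
      · simp [Frame.reindex, Frame.sum, f1]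
      · simp [Frame.reindex, Frame.sum, hfe]

/-- An element inverted by a square root of `-1` is a commutator. -/
theorem commOn_of_real [Fintype F] (hs : Sym ω) (h2 : (2 : F) ≠ 0) {g a : Module.End F V}
    {P : Submodule F V} (hP : Nd ω P) (hg : ∀ x ∈ P, g x ∈ P) (hiso : ∀ x y, ω (g x) (g y) = ω x y)
    (haP : ∀ x ∈ P, a x ∈ P) (ha2 : ∀ x ∈ P, a (a x) = -x)
    (haiso : ∀ x ∈ P, ∀ y ∈ P, ω (a x) (a y) = ω x y) (hinv : ∀ x ∈ P, a (g (a (g x))) = -x) :
    CommOn ω g P := by
  obtain ⟨n, f1, hf1, he1⟩ := exists_frame_cx hs h2 a _ P le_rfl hP haP ha2 haiso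
  obtain ⟨k, f2, hf2, he2⟩ := exists_frame_cx hs h2 (a * g) _ P le_rfl hP
    (fun x hx => haP _ (hg x hx)) hinv
    (fun x hx y hy => by rw [Module.End.mul_apply, Module.End.mul_apply, haiso _ (hg x hx) _ (hg y hy), hiso])
  have hnk : k = n := by
    have h1 := f1.finrank_space hs
    have h3 := f2.finrank_space hs
    rw [hf1, Fintype.card_fin] at h1
    rw [hf2, Fintype.card_fin] at h3
    omega
  subst hnk
  subst hf1
  have hb2 : ∀ c, f2.b c ∈ f1.space := fun c => hf2 ▸ f2.b_mem c
  have hY : Matrix.of (fun c d => f1.coord (f2.b d) c) ∈ symplecticGroup (Fin k) F := by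
    rw [SymplecticGroup.mem_iff']
    set Y := Matrix.of (fun c d => f1.coord (f2.b d) c) with hYdef
    have key : Yᵀ * (-J (Fin k) F) * Y = -J (Fin k) F := by
      refine Matrix.ext fun c d => ?_
      have h := f2.omega_b_left hs c (f2.b d)
      rw [f2.coord_b hs, Matrix.mulVec_single_one] at h
      conv_lhs at h => rw [← f1.vec_coord hs (show f2.b c ∈ f1.space from hb2 c), f1.omega_vec_left hs]
      rw [Matrix.mul_assoc]
      exact h
    rw [Matrix.mul_neg, Matrix.neg_mul] at key
    exact neg_inj.1 key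
  let Y : symplecticGroup (Fin k) F := ⟨_, hY⟩
  have haf : ∀ x ∈ f1.space, (a * g) x ∈ f1.space := fun x hx => haP _ (hg x hx)
  have hcol : ∀ d, (a * g) (f2.b d) = f2.vec (f1.coord (a (f1.b d))) := by
    rintro (i | i)
    · show (a * g) (f2.e i) = f2.vec (f1.coord (a (f1.e i)))
      rw [he1, he2, show f1.f i = f1.b (.inr i) from rfl, f1.coord_b hs, f2.vec_single]
      rfl
    · show (a * g) (f2.f i) = f2.vec (f1.coord (a (f1.f i)))
      rw [← he1, ha2 (f1.e i) (f1.b_mem (.inl i)), map_neg, map_neg, show f1.e i = f1.b (.inl i) from rfl,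
        f1.coord_b hs, f2.vec_single, ← he2]
      exact hinv _ (hb2 (.inl i))
  have hBY : f1.mat (a * g) * Y.1 = Y.1 * f1.mat a := by
    refine Matrix.ext fun c d => ?_
    have e1 : (f1.mat (a * g) * Y.1) c d = f1.coord ((a * g) (f2.b d)) c := by
      show (f1.mat (a * g) *ᵥ f1.coord (f2.b d)) c = _
      rw [f1.mat_mulVec, f1.vec_coord hs (hb2 d)]
    have e2 : (Y.1 * f1.mat a) c d = f1.coord (f2.vec (f1.coord (a (f1.b d)))) c := by
      rw [Frame.vec, Fintype.linearCombination_apply, map_sum, Matrix.mul_apply, Finset.sum_apply]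
      exact Finset.sum_congr rfl fun x _ => by simp [Y, Frame.mat, map_smul, mul_comm]
    rw [e1, e2, hcol]
  rw [f1.mat_mul hs a g hg] at hBY
  have hamem : f1.mat a ∈ symplecticGroup (Fin k) F := by
    rw [SymplecticGroup.mem_iff']
    have key : (f1.mat a)ᵀ * (-J (Fin k) F) * f1.mat a = -J (Fin k) F := by
      refine Matrix.ext fun c d => ?_
      have h := haiso _ (f1.b_mem c) _ (f1.b_mem d)
      conv_lhs at h => rw [← f1.vec_coord hs (haP _ (f1.b_mem c)), f1.omega_vec_left hs]
      rw [f1.omega_b_left hs, f1.coord_b hs, Matrix.mulVec_single_one] at h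
      rw [Matrix.mul_assoc]
      exact h
    rw [Matrix.mul_neg, Matrix.neg_mul] at key
    exact neg_inj.1 key
  let A : symplecticGroup (Fin k) F := ⟨_, hamem⟩
  let G : symplecticGroup (Fin k) F := ⟨_, f1.mat_mem hs g hg hiso⟩
  have h : A * G * Y = Y * A := Subtype.ext hBY
  have hG : G = A⁻¹ * Y * (A⁻¹)⁻¹ * Y⁻¹ := by
    rw [inv_inv, mul_assoc A⁻¹ Y A, ← h]; group
  exact f1.commOn hs g hg A⁻¹ Y (congrArg Subtype.val hG)

end CfsgLib.OreSp
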