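import Cfsg.Agent.OreSp.Cyclic
import Cfsg.Agent.OreSp.Real

/-!
# Two Jordan blocks paired by the form
-/

set_option autoImplicit false

namespace CfsgLib.OreSp

open Module LinearMap Polynomial

variable {F : Type*} [Field F] {V : Type*} [AddCommGroup V] [Module F V]
variable {ω : LinearMap.BilinForm F V} {g g' : Module.End F V} {ε : F}

/-- The map `g - ε`. -/
def NN (g : Module.End F V) (ε : F) : Module.End F V := g - ε • 1

theorem NN_apply (g : Module.End F V) (ε : F) (x : V) : NN g ε x = g x - ε • x := rfl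

theorem NN_mem {P : Submodule F V} (hP : ∀ x ∈ P, g x ∈ P) : ∀ x ∈ P, NN g ε x ∈ P :=
  fun x hx => P.sub_mem (hP x hx) (P.smul_mem _ hx)

theorem inv_of_NN_mem {P : Submodule F V} (hP : ∀ x ∈ P, NN g ε x ∈ P) : ∀ x ∈ P, g x ∈ P := by
  intro x hx
  have h : g x = NN g ε x + ε • x := by rw [NN_apply, sub_add_cancel]
  rw [h]
  exact P.add_mem (hP x hx) (P.smul_mem _ hx)

theorem adjN (hg : Isom ω g g') (ε : F) (x y : V) : ω (NN g ε x) y = ω x (NN g' ε y) := by
  simp [NN_apply, hg.adj x y]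

theorem adjN_pow (hg : Isom ω g g') (ε : F) (n : ℕ) (x y : V) :
    ω ((NN g ε ^ n) x) y = ω x ((NN g' ε ^ n) y) := by
  induction n generalizing x y with
  | zero => rfl
  | succ n ih => rw [pow_succ, Module.End.mul_apply, ih, adjN hg, pow_succ', Module.End.mul_apply]

theorem commute_inv_N (hg : Isom ω g g') (ε : F) : Commute g' (NN g ε) :=
  (Commute.sub_right (show Commute g' g from hg.inv'.trans hg.inv.symm)
    ((Commute.one_right g').smul_right ε))

theorem commute_NM (hg : Isom ω g g') (ε : F) : Commute (NN g ε) (NN g' ε) :=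
  ((commute_inv_N hg ε).symm.sub_right ((Commute.one_right _).smul_right ε))

theorem NM_eq (hg : Isom ω g g') (hε : ε * ε = 1) : NN g' ε = (-ε) • (g' * NN g ε) := by
  refine LinearMap.ext fun x => ?_
  simp only [LinearMap.smul_apply, Module.End.mul_apply, NN_apply, map_sub, map_smul, hg.apply']
  linear_combination (norm := module) hε • (-g' x)

theorem NM_pow (hg : Isom ω g g') (hε : ε * ε = 1) (l i : ℕ) (x : V) :
    (NN g ε ^ l) ((NN g' ε ^ i) x) = (-ε) ^ i • (g' ^ i) ((NN g ε ^ (l + i)) x) := by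
  rw [NM_eq hg hε, _root_.smul_pow, (commute_inv_N hg ε).mul_pow, LinearMap.smul_apply, map_smul,
    ← Module.End.mul_apply, ← Module.End.mul_apply, ← mul_assoc,
    ← ((commute_inv_N hg ε).pow_pow i l).eq, mul_assoc, ← pow_add]

theorem inv_pow_fix (hg : Isom ω g g') (hε : ε * ε = 1) {y : V} (hy : NN g ε y = 0) (i : ℕ) :
    (g' ^ i) y = ε ^ i • y := by
  induction i with
  | zero => simp
  | succ i ih =>
    rw [NN_apply, sub_eq_zero] at hy
    have h1 : g' y = ε • y := by
      calc g' y = g' ((ε * ε) • y) := by rw [hε, one_smul]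
        _ = ε • g' (g y) := by rw [mul_smul, map_smul, hy]
        _ = ε • y := by rw [hg.apply']
    rw [pow_succ', Module.End.mul_apply, ih, map_smul, h1, smul_smul, pow_succ]

theorem pow_kill {N : Module.End F V} {x : V} {a b : ℕ} (h : (N ^ a) x = 0) (hab : a ≤ b) :
    (N ^ b) x = 0 := by
  rw [← Nat.sub_add_cancel hab, pow_add, Module.End.mul_apply, h, map_zero]

theorem NM_top (hg : Isom ω g g') (hε : ε * ε = 1) (l i : ℕ) (x : V)
    (hx : (NN g ε ^ (l + i + 1)) x = 0) :
    (NN g ε ^ l) ((NN g' ε ^ i) x) = (-1 : F) ^ i • (NN g ε ^ (l + i)) x := by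
  rw [NM_pow hg hε, inv_pow_fix hg hε (by rw [← Module.End.mul_apply, ← pow_succ', hx]), smul_smul,
    ← mul_pow, neg_mul, hε]

theorem NM_zero (hg : Isom ω g g') (hε : ε * ε = 1) (l i : ℕ) (x : V)
    (hx : (NN g ε ^ (l + i)) x = 0) : (NN g ε ^ l) ((NN g' ε ^ i) x) = 0 := by
  rw [NM_pow hg hε, hx, map_zero, smul_zero]

theorem van (hg : Isom ω g g') {x y : V} {a : ℕ} (h : ∀ n, a ≤ n → ω ((NN g ε ^ n) x) y = 0) :
    ∀ z ∈ Cyc g x, ∀ n, a ≤ n → ω ((NN g ε ^ n) z) y = 0 := by
  let W : Submodule F V :=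
    { carrier := {z | ∀ n, a ≤ n → ω ((NN g ε ^ n) z) y = 0}
      add_mem' := fun {z z'} h1 h2 n hn => by
        rw [map_add, map_add, LinearMap.add_apply, h1 n hn, h2 n hn, add_zero]
      zero_mem' := fun n _ => by simp
      smul_mem' := fun c z h1 n hn => by
        rw [map_smul, map_smul, LinearMap.smul_apply, h1 n hn, smul_zero] }
  have hW : ∀ z ∈ W, g z ∈ W := inv_of_NN_mem (ε := ε) fun z hz n hn => by
    rw [← Module.End.mul_apply, ← pow_succ]; exact hz (n + 1) (by omega)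
  exact cyc_le hW h

theorem cyc_isotropic [FiniteDimensional F V] (hg : Isom ω g g') {x : V}
    (h : ∀ n, ω ((NN g ε ^ n) x) x = 0) : ∀ a ∈ Cyc g x, ∀ b ∈ Cyc g x, ω a b = 0 := by
  intro a ha b hb
  obtain ⟨p, rfl⟩ := mem_cyc.1 hb
  rw [← hg.symm.adj_aeval p a x]
  simpa using van hg (a := 0) (fun n _ => h n) _ (aeval_mem (hg.map_mem (cyc_inv g x)) p ha) 0 le_rfl

/-- An isometry unipotent up to sign on `P`, with degenerate top form. -/
structure Unip (ω : LinearMap.BilinForm F V) (g g' : Module.End F V) (ε : F) (P : Submodule F V)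
    (j : ℕ) : Prop where
  hs : Sym ω
  hg : Isom ω g g'
  eps : ε * ε = 1
  nd : Nd ω P
  inv : ∀ x ∈ P, g x ∈ P
  nil : ∀ x ∈ P, (NN g ε ^ (j + 1)) x = 0
  deg : ∀ x ∈ P, ω ((NN g ε ^ j) x) x = 0

variable {P : Submodule F V} {j : ℕ}

theorem Unip.polar (hu : Unip ω g g' ε P j) {x y : V} (hx : x ∈ P) (hy : y ∈ P) :
    ω ((NN g ε ^ j) y) x = -ω ((NN g ε ^ j) x) y := by
  have h := hu.deg _ (P.add_mem hx hy)
  simp only [map_add, LinearMap.add_apply, hu.deg x hx, hu.deg y hy, zero_add, add_zero] at h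
  linear_combination h

theorem Unip.restrict (hu : Unip ω g g' ε P j) {Q : Submodule F V} (hQP : Q ≤ P) (hQ : Nd ω Q)
    (hinv : ∀ x ∈ Q, g x ∈ Q) : Unip ω g g' ε Q j :=
  ⟨hu.hs, hu.hg, hu.eps, hQ, hinv, fun x hx => hu.nil x (hQP hx), fun x hx => hu.deg x (hQP hx)⟩

theorem Unip.powN_mem (hu : Unip ω g g' ε P j) (n : ℕ) {x : V} (hx : x ∈ P) :
    (NN g ε ^ n) x ∈ P :=
  pow_apply_mem (NN_mem hu.inv) n hx

theorem Unip.kill (hu : Unip ω g g' ε P j) {x : V} (hx : x ∈ P) {n : ℕ} (hn : j + 1 ≤ n) :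
    (NN g ε ^ n) x = 0 :=
  pow_kill (hu.nil x hx) hn

variable [FiniteDimensional F V]

theorem Unip.powM_mem (hu : Unip ω g g' ε P j) (n : ℕ) {x : V} (hx : x ∈ P) :
    (NN g' ε ^ n) x ∈ P :=
  pow_apply_mem (NN_mem (hu.hg.map_mem hu.inv)) n hx

/-- The vectors of two Jordan chains. -/
def pb (g : Module.End F V) (ε : F) (j : ℕ) (v w : V) : Fin (j + 1) ⊕ Fin (j + 1) → V :=
  Sum.elim (fun i => (NN g ε ^ (i : ℕ)) v) fun i => (NN g ε ^ (i : ℕ)) w

/-- The span of two Jordan chains. -/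
def pspan (g : Module.End F V) (ε : F) (j : ℕ) (v w : V) : Submodule F V :=
  Submodule.span F (Set.range (pb g ε j v w))

theorem pspan_le (hu : Unip ω g g' ε P j) {v w : V} (hv : v ∈ P) (hw : w ∈ P) :
    pspan g ε j v w ≤ P :=
  Submodule.span_le.2 (by
    rintro _ ⟨i | i, rfl⟩
    exacts [hu.powN_mem _ hv, hu.powN_mem _ hw])

theorem pspan_inv (hu : Unip ω g g' ε P j) {v w : V} (hv : v ∈ P) (hw : w ∈ P) :
    ∀ x ∈ pspan g ε j v w, g x ∈ pspan g ε j v w := by
  refine inv_of_NN_mem (ε := ε) fun x hx => ?_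
  induction hx using Submodule.span_induction with
  | mem z hz =>
    obtain ⟨i | i, rfl⟩ := hz <;>
      simp only [pb, Sum.elim_inl, Sum.elim_inr, ← Module.End.mul_apply, ← pow_succ'] <;>
      rcases Nat.lt_or_ge ((i : ℕ) + 1) (j + 1) with h | h
    · exact Submodule.subset_span ⟨.inl ⟨_, h⟩, rfl⟩
    · rw [hu.kill hv h]; exact zero_mem _
    · exact Submodule.subset_span ⟨.inr ⟨_, h⟩, rfl⟩
    · rw [hu.kill hw h]; exact zero_mem _
  | zero => simp
  | add a b _ _ h1 h2 => rw [map_add]; exact Submodule.add_mem _ h1 h2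
  | smul c a _ h1 => rw [map_smul]; exact Submodule.smul_mem _ c h1

theorem left_mem_pspan (g : Module.End F V) (ε : F) (j : ℕ) (v w : V) : v ∈ pspan g ε j v w :=
  Submodule.subset_span ⟨.inl 0, by simp [pb]⟩

theorem right_mem_pspan (g : Module.End F V) (ε : F) (j : ℕ) (v w : V) : w ∈ pspan g ε j v w :=
  Submodule.subset_span ⟨.inr 0, by simp [pb]⟩

theorem pair_aux (hu : Unip ω g g' ε P j) {v w : V} (hv : v ∈ P) (hw : w ∈ P)
    (hvw : ω ((NN g ε ^ j) v) w = 1) (c : Fin (j + 1) ⊕ Fin (j + 1) → F)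
    (h : ∀ y ∈ pspan g ε j v w, ω (∑ a, c a • pb g ε j v w a) y = 0) : c = 0 := by
  have hpi := hu.hg.map_mem (pspan_inv hu hv hw)
  have key : ∀ (u : V), u ∈ pspan g ε j v w → u ∈ P → ∀ i : Fin (j + 1),
      (∀ l : Fin (j + 1), (l : ℕ) < i → c (.inl l) = 0 ∧ c (.inr l) = 0) →
      c (.inl i) * ω ((NN g ε ^ j) v) u + c (.inr i) * ω ((NN g ε ^ j) w) u = 0 := by
    intro u hu1 hu2 i hlt
    have h1 := h _ (pow_apply_mem (NN_mem (ε := ε) hpi) (j - i) hu1)
    rw [← adjN_pow hu.hg, map_sum, map_sum, LinearMap.sum_apply, Fintype.sum_sum_type] at h1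
    rw [Finset.sum_eq_single i, Finset.sum_eq_single i] at h1
    · have e : j - (i : ℕ) + i = j := by omega
      simpa only [pb, Sum.elim_inl, Sum.elim_inr, map_smul, LinearMap.smul_apply, smul_eq_mul,
        ← Module.End.mul_apply, ← pow_add, e] using h1
    · intro l _ hl
      rcases Nat.lt_or_ge (l : ℕ) i with hh | hh
      · simp [(hlt l hh).2]
      · have : (i : ℕ) < l := lt_of_le_of_ne hh fun e => hl (Fin.ext e.symm)
        simp only [pb, Sum.elim_inr, map_smul, ← Module.End.mul_apply, ← pow_add]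
        rw [hu.kill hw (by omega)]
        simp
    · simp
    · intro l _ hl
      rcases Nat.lt_or_ge (l : ℕ) i with hh | hh
      · simp [(hlt l hh).1]
      · have : (i : ℕ) < l := lt_of_le_of_ne hh fun e => hl (Fin.ext e.symm)
        simp only [pb, Sum.elim_inl, map_smul, ← Module.End.mul_apply, ← pow_add]
        rw [hu.kill hv (by omega)]
        simp
    · simp
  have all : ∀ (n : ℕ) (i : Fin (j + 1)), (i : ℕ) = n → c (.inl i) = 0 ∧ c (.inr i) = 0 := by
    intro n
    induction n using Nat.strong_induction_on with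
    | _ n ih =>
      intro i hi
      have hlt : ∀ l : Fin (j + 1), (l : ℕ) < i → c (.inl l) = 0 ∧ c (.inr l) = 0 :=
        fun l hl => ih l (hi ▸ hl) l rfl
      constructor
      · simpa [hvw, hu.deg w hw] using key w (right_mem_pspan g ε j v w) hw i hlt
      · simpa [hu.polar hv hw, hvw, hu.deg v hv] using key v (left_mem_pspan g ε j v w) hv i hlt
  funext a
  rcases a with i | i
  · exact (all _ i rfl).1
  · exact (all _ i rfl).2

theorem pb_indep (hu : Unip ω g g' ε P j) {v w : V} (hv : v ∈ P) (hw : w ∈ P)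
    (hvw : ω ((NN g ε ^ j) v) w = 1) : LinearIndependent F (pb g ε j v w) :=
  Fintype.linearIndependent_iff.2 fun c hc =>
    congrFun (pair_aux hu hv hw hvw c fun y _ => by rw [hc]; simp)

theorem pspan_finrank (hu : Unip ω g g' ε P j) {v w : V} (hv : v ∈ P) (hw : w ∈ P)
    (hvw : ω ((NN g ε ^ j) v) w = 1) : finrank F (pspan g ε j v w) = 2 * (j + 1) := by
  rw [pspan, finrank_span_eq_card (pb_indep hu hv hw hvw), Fintype.card_sum, Fintype.card_fin]
  omega

theorem pspan_nd (hu : Unip ω g g' ε P j) {v w : V} (hv : v ∈ P) (hw : w ∈ P)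
    (hvw : ω ((NN g ε ^ j) v) w = 1) : Nd ω (pspan g ε j v w) := by
  intro x hx h
  obtain ⟨c, rfl⟩ := (Submodule.mem_span_range_iff_exists_fun F).1 hx
  rw [pair_aux hu hv hw hvw c h]
  simp

theorem adj_S (hg : Isom ω g g') (hs : Sym ω) (ε : F) :
    (∀ a b, ω ((NN g ε * NN g' ε) a) b = ω a ((NN g ε * NN g' ε) b)) ∧
      ∀ a, ω ((NN g ε * NN g' ε) a) a = 0 := by
  refine ⟨fun a b => ?_, fun a => ?_⟩
  · rw [Module.End.mul_apply, Module.End.mul_apply, adjN hg, adjN hg.symm]
  · rw [Module.End.mul_apply, adjN hg, hs.alt]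

theorem finrank_span'_le {S : Module.End F V} {x : V} {r : ℕ} (h : (S ^ r) x = 0) :
    finrank F (Span' S x) ≤ r := by
  have hle : Span' S x ≤ Submodule.span F (Set.range fun i : Fin r => (S ^ (i : ℕ)) x) := by
    refine Submodule.span_le.2 ?_
    rintro _ ⟨i, rfl⟩
    rcases Nat.lt_or_ge i r with hi | hi
    · exact Submodule.subset_span ⟨⟨i, hi⟩, rfl⟩
    · simp only [SetLike.mem_coe, pow_kill h hi, zero_mem]
  exact (Submodule.finrank_mono hle).trans ((finrank_range_le_card _).trans (Fintype.card_fin r).le)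

theorem S_pow (hg : Isom ω g g') (r : ℕ) (x : V) :
    ((NN g ε * NN g' ε) ^ r) x = (NN g ε ^ r) ((NN g' ε ^ r) x) := by
  rw [(commute_NM hg ε).mul_pow, Module.End.mul_apply]

theorem cyc_le_span' (hg : Isom ω g g') (hε : ε * ε = 1) (x : V) :
    Cyc g x ≤ Span' (NN g ε * NN g' ε) x ⊔ (Span' (NN g ε * NN g' ε) x).map g := by
  set S := NN g ε * NN g' ε with hS
  set U := Span' S x
  refine cyc_le (fun y hy => ?_) (Submodule.mem_sup_left (self_mem_span' S x))
  obtain ⟨a, ha, b, hb, rfl⟩ := Submodule.mem_sup.1 hy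
  obtain ⟨c, hc, rfl⟩ := Submodule.mem_map.1 hb
  rw [map_add]
  refine Submodule.add_mem _ (Submodule.mem_sup_right ⟨a, ha, rfl⟩) ?_
  have e : g (g c) = g (ε • ((2 : F) • c - S c)) + -c := by
    simp only [hS, Module.End.mul_apply, NN_apply, map_sub, map_smul, hg.apply]
    linear_combination (norm := module) hε • (-(g (g c)) - c + ε • g c)
  rw [e]
  exact Submodule.add_mem _
    (Submodule.mem_sup_right
      ⟨_, U.smul_mem _ (U.sub_mem (U.smul_mem _ hc) (span'_inv S x c hc)), rfl⟩)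
    (Submodule.mem_sup_left (U.neg_mem hc))

theorem exists_dual_vec (hs : Sym ω) {P U : Submodule F V} (hP : Nd ω P) (hU : U ≤ P) {t : V}
    (ht : t ∈ P) (htU : t ∉ U) : ∃ w ∈ P, ω t w = 1 ∧ ∀ x ∈ U, ω x w = 0 := by
  obtain ⟨f, hf, hker⟩ :=
    Submodule.exists_le_ker_of_notMem (show (⟨t, ht⟩ : P) ∉ U.comap P.subtype from htU)
  let φ := LinearMap.BilinForm.toDual _ (nd_sym hs hP).nondegenerate
  let w := φ.symm ((-(f ⟨t, ht⟩)⁻¹) • f)
  have hw : ∀ y : P, ω (y : V) (w : V) = (f ⟨t, ht⟩)⁻¹ * f y := fun y => by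
    have h : ω (w : V) (y : V) = ((-(f ⟨t, ht⟩)⁻¹) • f) y :=
      LinearMap.BilinForm.apply_toDual_symm_apply (B := ω.compl₁₂ P.subtype P.subtype)
        (hB := (nd_sym hs hP).nondegenerate) ((-(f ⟨t, ht⟩)⁻¹) • f) y
    rw [hs.swap, h]
    simp
  refine ⟨w, w.2, ?_, fun x hx => ?_⟩
  · rw [hw ⟨t, ht⟩, inv_mul_cancel₀ hf]
  · rw [hw ⟨x, hU hx⟩, show f ⟨x, hU hx⟩ = 0 from hker hx, mul_zero]

/-- Two paired chains filling the space have upper left block one for `ε • g`. -/
theorem oneAt_unip (hu : Unip ω g g' ε P j) (hdim : finrank F P = 2 * (j + 1)) {v w₁ : V}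
    (hv : v ∈ P) (hw₁ : w₁ ∈ P) (h₁ : ω ((NN g ε ^ j) v) w₁ = 1) : OneAt ω (ε • g) P := by
  obtain ⟨hs, hg, hε⟩ := And.intro hu.hs (And.intro hu.hg hu.eps)
  have hS := adj_S hg hs ε
  set S := NN g ε * NN g' ε with hSdef
  have hgP := hu.inv
  have hSP : ∀ x ∈ P, S x ∈ P := fun x hx => by
    rw [hSdef, Module.End.mul_apply]
    exact NN_mem hgP _ (NN_mem (hg.map_mem hgP) _ hx)
  set t := (NN g ε ^ j) v with ht
  have htne : t ≠ 0 := fun e => by simp [e] at h₁
  set U1 := Span' S v with hU1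
  set U2 := Span' S (NN g ε v) with hU2
  have hv' : NN g ε v ∈ P := NN_mem hgP v hv
  have hN2 : ∀ n, (NN g ε ^ n) (NN g ε v) = (NN g ε ^ (n + 1)) v := fun n => by
    rw [pow_succ, Module.End.mul_apply]
  have d1 : finrank F U1 ≤ j / 2 + 1 := finrank_span'_le (by
    rw [S_pow hg, NM_zero hg hε _ _ _ (hu.kill hv (by omega))])
  have d2 : finrank F U2 ≤ (j + 1) / 2 := finrank_span'_le (by
    rw [S_pow hg, NM_zero hg hε _ _ _ (by rw [hN2]; exact hu.kill hv (by omega))])
  have hNS : ∀ x, ∀ y ∈ Span' S x, NN g ε y ∈ Span' S (NN g ε x) := by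
    intro x y hy
    induction hy using Submodule.span_induction with
    | mem z hz =>
      obtain ⟨i, rfl⟩ := hz
      refine Submodule.subset_span ⟨i, ?_⟩
      show (S ^ i) (NN g ε x) = NN g ε ((S ^ i) x)
      have hc : Commute (S ^ i) (NN g ε) :=
        ((Commute.refl (NN g ε)).mul_right (commute_NM hg ε)).symm.pow_left i
      rw [← Module.End.mul_apply, hc.eq, Module.End.mul_apply]
    | zero => simp
    | add a b _ _ h1 h2 => rw [map_add]; exact Submodule.add_mem _ h1 h2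
    | smul c a _ h1 => rw [map_smul]; exact Submodule.smul_mem _ c h1
  have hcyc : Cyc g v ≤ U1 ⊔ U2 := (cyc_le_span' hg hε v).trans (sup_le le_sup_left (by
    rintro _ ⟨c, hc, rfl⟩
    have e : g c = NN g ε c + ε • c := by rw [NN_apply, sub_add_cancel]
    rw [e]
    exact Submodule.add_mem _ (Submodule.mem_sup_right (hNS v c hc))
      (Submodule.mem_sup_left (Submodule.smul_mem _ _ hc))))
  have hindep : LinearIndependent F fun i : Fin (j + 1) => (NN g ε ^ (i : ℕ)) v :=
    (pb_indep hu hv hw₁ h₁).comp Sum.inl Sum.inl_injective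
  have d3 : j + 1 ≤ finrank F (Cyc g v) := by
    have hle : Submodule.span F (Set.range fun i : Fin (j + 1) => (NN g ε ^ (i : ℕ)) v) ≤ Cyc g v :=
      Submodule.span_le.2 (by
        rintro _ ⟨i, rfl⟩
        exact pow_apply_mem (NN_mem (cyc_inv g v)) _ (self_mem_cyc g v))
    simpa [finrank_span_eq_card hindep] using Submodule.finrank_mono hle
  have d4 := Submodule.finrank_sup_add_finrank_inf_eq U1 U2
  have d5 := Submodule.finrank_mono hcyc
  have hdisj : U1 ⊓ U2 = ⊥ := Submodule.finrank_eq_zero.1 (by omega)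
  set v0 := if Even j then NN g ε v else v with hv0
  have hv0P : v0 ∈ P := by rw [hv0]; split <;> assumption
  have htU : t ∉ Span' S v0 := by
    intro hmem
    apply htne
    rw [← Submodule.mem_bot F, ← hdisj]
    rcases Nat.even_or_odd' j with ⟨r, hr | hr⟩
    · rw [hv0, if_pos ⟨r, by omega⟩] at hmem
      refine ⟨?_, hmem⟩
      have e : (S ^ r) v = (-1 : F) ^ r • t := by
        rw [S_pow hg, NM_top hg hε r r v (hu.kill hv (by omega)), ht, hr, two_mul]
      have : t = (-1 : F) ^ r • (S ^ r) v := by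
        rw [e, smul_smul, ← mul_pow, neg_one_mul, neg_neg, one_pow, one_smul]
      rw [this]
      exact Submodule.smul_mem _ _ (Submodule.subset_span ⟨r, rfl⟩)
    · have hodd : ¬ Even j := fun ⟨s, hs'⟩ => by omega
      rw [hv0, if_neg hodd] at hmem
      refine ⟨hmem, ?_⟩
      have e : (S ^ r) (NN g ε v) = (-1 : F) ^ r • t := by
        rw [S_pow hg, NM_top hg hε r r _ (by rw [hN2]; exact hu.kill hv (by omega)), hN2, ht, hr,
          two_mul]
      have : t = (-1 : F) ^ r • (S ^ r) (NN g ε v) := by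
        rw [e, smul_smul, ← mul_pow, neg_one_mul, neg_neg, one_pow, one_smul]
      rw [this]
      exact Submodule.smul_mem _ _ (Submodule.subset_span ⟨r, rfl⟩)
  obtain ⟨w, hw, hvw, hw0⟩ :=
    exists_dual_vec hs hu.nd (span'_le hSP hv0P) (hu.powN_mem j hv) htU
  set U := Span' S v0 ⊔ Span' S w with hU
  have hUP : U ≤ P := sup_le (span'_le hSP hv0P) (span'_le hSP hw)
  have hz0 := self_zero hs hS.1 hS.2
  have hmix : ∀ a ∈ Span' S v0, ∀ b ∈ Span' S w, ω a b = 0 :=
    span'_orth hS.1 fun n => hw0 _ (Submodule.subset_span ⟨n, rfl⟩)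
  have hiso : ∀ x ∈ U, ∀ y ∈ U, ω x y = 0 := by
    intro x hx y hy
    obtain ⟨a, ha, b, hb, rfl⟩ := Submodule.mem_sup.1 hx
    obtain ⟨a', ha', b', hb', rfl⟩ := Submodule.mem_sup.1 hy
    simp [span'_orth hS.1 (hz0 v0) a ha a' ha', hmix a ha b' hb',
      span'_orth hS.1 (hz0 w) b hb b' hb', hs.swap a' b, hmix a' ha' b hb]
  have hle := isotropic_finrank_le hs hu.nd hUP hiso
  have hPle : P ≤ (U ⊔ U.map g) ⊔ (if Even j then Submodule.span F {v} else ⊥) := by
    have hQ : pspan g ε j v w = P := Submodule.eq_of_le_of_finrank_eq (pspan_le hu hv hw)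
      (by rw [pspan_finrank hu hv hw hvw, hdim])
    have hc0 : Cyc g v0 ≤ U ⊔ U.map g := (cyc_le_span' hg hε v0).trans
      (sup_le_sup le_sup_left (Submodule.map_mono le_sup_left))
    have hcw : Cyc g w ≤ U ⊔ U.map g := (cyc_le_span' hg hε w).trans
      (sup_le_sup le_sup_right (Submodule.map_mono le_sup_right))
    conv_lhs => rw [← hQ]
    refine Submodule.span_le.2 ?_
    rintro _ ⟨i | i, rfl⟩
    · show (NN g ε ^ (i : ℕ)) v ∈ _
      by_cases hj : Even j
      · rw [if_pos hj]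
        rcases Nat.eq_zero_or_eq_succ_pred (i : ℕ) with hi | hi
        · rw [hi]; exact Submodule.mem_sup_right (Submodule.mem_span_singleton_self v)
        · rw [hi, ← hN2]
          refine Submodule.mem_sup_left (hc0 ?_)
          rw [hv0, if_pos hj]
          exact pow_apply_mem (NN_mem (cyc_inv g _)) _ (self_mem_cyc g _)
      · rw [if_neg hj]
        refine Submodule.mem_sup_left (hc0 ?_)
        rw [hv0, if_neg hj]
        exact pow_apply_mem (NN_mem (cyc_inv g _)) _ (self_mem_cyc g _)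
    · exact Submodule.mem_sup_left (hcw (pow_apply_mem (NN_mem (cyc_inv g _)) _ (self_mem_cyc g _)))
  have h2 := Submodule.finrank_sup_add_finrank_inf_eq U (U.map g)
  have h4 : finrank F (U.map g) ≤ finrank F U := Submodule.finrank_map_le _ _
  have h5 := (Submodule.finrank_mono hPle).trans (Submodule.finrank_add_le_finrank_add_finrank _ _)
  have h6 : finrank F (if Even j then Submodule.span F {v} else ⊥ : Submodule F V) ≤
      if Even j then 1 else 0 := by
    by_cases hj : Even j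
    · rw [if_pos hj, if_pos hj]
      refine (finrank_span_singleton fun e => ?_).le
      exact htne (by rw [ht, e, map_zero])
    · rw [if_neg hj, if_neg hj, finrank_bot]
  have h7 : (if Even j then 1 else 0 : ℕ) ≤ 1 := by split <;> omega
  have hk : finrank F U = j + 1 := by omega
  have hfix : ∀ x ∈ U, g x ∈ U → NN g ε x = 0 := by
    intro x hx hgx
    have hI : g x ∈ U ⊓ U.map g := ⟨hgx, ⟨x, hx, rfl⟩⟩
    rcases Nat.even_or_odd' j with ⟨r, hr | hr⟩
    · have hne : (NN g' ε ^ j) w ≠ 0 := fun e => by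
        rw [adjN_pow hg, e, map_zero] at hvw
        exact zero_ne_one hvw
      have hne' : (NN g ε ^ j) w ≠ 0 := fun e => hne (by
        have := NM_zero hg hε 0 j w (by simpa using e)
        simpa using this)
      set z := (S ^ r) w with hz
      have hz1 : z = (-1 : F) ^ r • (NN g ε ^ j) w := by
        rw [hz, S_pow hg, NM_top hg hε r r w (hu.kill hw (by omega)), hr, two_mul]
      have hzN : NN g ε z = 0 := by
        rw [hz1, map_smul, ← Module.End.mul_apply, ← pow_succ', hu.nil w hw, smul_zero]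
      have hz0' : z ≠ 0 := by rw [hz1]; exact smul_ne_zero (pow_ne_zero _ (by simp)) hne'
      have hgz : g z = ε • z := sub_eq_zero.1 hzN
      have hzU : z ∈ U := Submodule.mem_sup_right (Submodule.subset_span ⟨r, rfl⟩)
      have hzI : z ∈ U ⊓ U.map g := ⟨hzU, ⟨ε • z, U.smul_mem _ hzU, by
        rw [map_smul, hgz, smul_smul, hε, one_smul]⟩⟩
      have h1I : finrank F (U ⊓ U.map g : Submodule F V) ≤ 1 := by omega
      have heq : Submodule.span F {z} = U ⊓ U.map g :=
        Submodule.eq_of_le_of_finrank_le ((Submodule.span_singleton_le_iff_mem _ _).2 hzI)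
          (by rw [finrank_span_singleton hz0']; exact h1I)
      rw [← heq] at hI
      obtain ⟨a, ha⟩ := Submodule.mem_span_singleton.1 hI
      have hx' : x = (a * ε) • z := by
        have : g x = g ((a * ε) • z) := by
          rw [map_smul, hgz, smul_smul, mul_assoc, hε, mul_one, ha]
        rw [← hg.apply' x, this, hg.apply']
      rw [hx', map_smul, hzN, smul_zero]
    · have hodd : ¬ Even j := fun ⟨s, hs'⟩ => by omega
      rw [if_neg hodd, finrank_bot] at h5
      have hbot : U ⊓ U.map g = ⊥ := Submodule.finrank_eq_zero.1 (by omega)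
      rw [hbot, Submodule.mem_bot] at hI
      rw [← hg.apply' x, hI, map_zero, map_zero]
  have hsub : ∀ x, (ε • g) x - x = ε • NN g ε x := fun x => by
    rw [NN_apply, LinearMap.smul_apply, smul_sub, smul_smul, hε, one_smul]
  refine oneAt_of_lag hs hu.nd (fun x hx => P.smul_mem _ (hgP x hx)) U hUP hiso (by omega)
    (fun x hx hd => ?_) fun x hx y hy => ?_
  · rw [hsub] at hd ⊢
    have hgx : g x ∈ U := by
      have : g x = ε • (ε • NN g ε x) + ε • x := by
        rw [smul_smul, hε, one_smul, NN_apply, sub_add_cancel]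
      rw [this]
      exact U.add_mem (U.smul_mem _ hd) (U.smul_mem _ hx)
    rw [hfix x hx hgx, smul_zero]
  · rw [hsub, hsub, map_smul, map_smul, LinearMap.smul_apply, adjN hg, ← Module.End.mul_apply,
      ← (commute_NM hg ε).eq]
    have hSy : S y ∈ U := by
      obtain ⟨a, ha, b, hb, rfl⟩ := Submodule.mem_sup.1 hy
      rw [map_add]
      exact Submodule.add_mem_sup (span'_inv S v0 a ha) (span'_inv S w b hb)
    rw [← hSdef, hiso x hx _ hSy, smul_zero, smul_zero]

theorem exists_inv_pow (hg : Isom ω g g') (hε : ε * ε = 1) (x : V) (r : ℕ) :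
    ∃ z ∈ Cyc g x, (g' ^ r) x = ε ^ r • x + NN g ε z := by
  induction r with
  | zero => exact ⟨0, zero_mem _, by simp⟩
  | succ r ih =>
    obtain ⟨z, hz, e⟩ := ih
    have hc : ∀ y, g' (NN g ε y) = NN g ε (g' y) := fun y => by
      rw [← Module.End.mul_apply, (commute_inv_N hg ε).eq, Module.End.mul_apply]
    have h1 : g' x = ε • x + NN g ε ((-ε) • g' x) := by
      have h := LinearMap.congr_fun (NM_eq hg hε) x
      rw [NN_apply, LinearMap.smul_apply, Module.End.mul_apply, hc, ← map_smul, sub_eq_iff_eq_add] at h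
      exact h.trans (add_comm _ _)
    have hinv := hg.map_mem (cyc_inv g x)
    obtain ⟨q, hq, h1⟩ : ∃ q ∈ Cyc g x, g' x = ε • x + NN g ε q :=
      ⟨_, Submodule.smul_mem _ _ (hinv x (self_mem_cyc g x)), h1⟩
    refine ⟨ε ^ r • q + g' z, Submodule.add_mem _ (Submodule.smul_mem _ _ hq) (hinv z hz), ?_⟩
    rw [pow_succ', Module.End.mul_apply, e, map_add, map_smul, hc, h1]
    rw [smul_add, smul_smul, ← pow_succ, map_add, map_smul (NN g ε) (ε ^ r), add_assoc]

theorem vanish_even (hs : Sym ω) (hg : Isom ω g g') (hε : ε * ε = 1) {x : V} {r : ℕ}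
    (h : ∀ n, 2 * r < n → ω ((NN g ε ^ n) x) x = 0) : ω ((NN g ε ^ (2 * r)) x) x = 0 := by
  have e : ω ((NN g ε ^ r) ((NN g' ε ^ r) x)) x = 0 := by
    rw [adjN_pow hg]
    exact hs.alt _
  obtain ⟨z, hz, hzr⟩ := exists_inv_pow hg hε x r
  have hc : ∀ y, (g' ^ r) ((NN g ε ^ (2 * r)) y) = (NN g ε ^ (2 * r)) ((g' ^ r) y) := fun y => by
    rw [← Module.End.mul_apply, ((commute_inv_N hg ε).pow_pow r _).eq, Module.End.mul_apply]
  rw [NM_pow hg hε, ← two_mul, map_smul, LinearMap.smul_apply, hc, hzr, map_add, map_smul,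
    ← Module.End.mul_apply, ← pow_succ, map_add, LinearMap.add_apply,
    van hg (a := 2 * r + 1) (fun n hn => h n hn) z hz _ le_rfl, add_zero, map_smul,
    LinearMap.smul_apply, smul_eq_mul, smul_eq_mul, ← mul_assoc, ← mul_pow, neg_mul, hε] at e
  exact (mul_eq_zero.1 e).resolve_left (pow_ne_zero _ (by simp))

theorem unip_even (hu : Unip ω g g' ε P j) (h2 : (2 : F) ≠ 0) {v w : V} (hv : v ∈ P) (hw : w ∈ P)
    (hvw : ω ((NN g ε ^ j) v) w = 1) : Even j := by
  have h1 := hu.polar hv hw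
  rw [hvw, adjN_pow hu.hg, hu.hs.swap ((NN g' ε ^ j) v) w] at h1
  have h3 := NM_top hu.hg hu.eps 0 j v (hu.kill hv (by omega))
  rw [pow_zero, Module.End.one_apply, zero_add] at h3
  rw [h3, map_smul, LinearMap.smul_apply, hvw, smul_eq_mul, mul_one, neg_inj] at h1
  by_contra hodd
  rw [(Nat.not_even_iff_odd.1 hodd).neg_one_pow] at h1
  exact h2 (by linear_combination -h1)

theorem newton (hu : Unip ω g g' ε P j) (h2 : (2 : F) ≠ 0) {v w : V} (hv : v ∈ P) (hw : w ∈ P)
    (hvw : ω ((NN g ε ^ j) v) w = 1) :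
    ∀ d : ℕ, ∃ v' ∈ P, ω ((NN g ε ^ j) v') w = 1 ∧
      ∀ n, j + 1 ≤ n + d → ω ((NN g ε ^ n) v') v' = 0 := by
  obtain ⟨hs, hg, hε⟩ := And.intro hu.hs (And.intro hu.hg hu.eps)
  intro d
  induction d with
  | zero => exact ⟨v, hv, hvw, fun n hn => by simp [hu.kill hv (n := n) (by omega)]⟩
  | succ d ih =>
    obtain ⟨v', hv', hvw', hz⟩ := ih
    by_cases hd : d ≤ j
    swap
    · exact ⟨v', hv', hvw', fun n _ => hz n (by omega)⟩
    rcases Nat.even_or_odd' (j - d) with ⟨r, hr | hr⟩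
    · refine ⟨v', hv', hvw', fun n hn => ?_⟩
      rcases Nat.lt_or_ge (n + d) (j + 1) with hlt | hge
      · rw [show n = 2 * r by omega]
        exact vanish_even hs hg hε fun n' hn' => hz n' (by omega)
      · exact hz n hge
    · obtain ⟨s, hs2⟩ := unip_even hu h2 hv hw hvw
      have hdodd : Odd d := ⟨s - r - 1, by omega⟩
      set α := ω ((NN g ε ^ (j - d)) v') v' / 2 with hα
      set y := (NN g ε ^ d) w with hy
      have hyP : y ∈ P := hu.powN_mem d hw
      have hexp : ∀ n, ω ((NN g ε ^ n) (v' + α • y)) (v' + α • y) =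
          ω ((NN g ε ^ n) v') v' + α * (ω ((NN g ε ^ (n + d)) w) v' +
            ω ((NN g ε ^ n) v') y) + α * α * ω ((NN g ε ^ (n + d)) w) y := fun n => by
        rw [pow_add, Module.End.mul_apply, ← hy]
        simp only [map_add, map_smul, LinearMap.add_apply, LinearMap.smul_apply, smul_eq_mul]
        ring
      refine ⟨v' + α • y, P.add_mem hv' (P.smul_mem _ hyP), ?_, fun n hn => ?_⟩
      · rw [map_add, map_smul, hy, ← Module.End.mul_apply, ← pow_add,
          hu.kill hw (n := j + d) (by omega), smul_zero, add_zero, hvw']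
      · have hmove : ω ((NN g ε ^ n) v') y = ω ((NN g ε ^ n) ((NN g' ε ^ d) v')) w := by
          rw [hy, ← adjN_pow hg.symm]
          rw [← Module.End.mul_apply, ← Module.End.mul_apply, ((commute_NM hg ε).pow_pow n d).eq]
        rcases Nat.lt_or_ge (n + d) (j + 1) with hlt | hge
        · have hn' : n = j - d := by omega
          have e1 : n + d = j := by omega
          have hq : ω ((NN g ε ^ j) w) y = 0 := by
            rw [hy, ← adjN_pow hg.symm]
            have h := NM_zero hg hε 0 d ((NN g ε ^ j) w) (by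
              rw [← Module.End.mul_apply, ← pow_add]
              exact hu.kill hw (by have := hdodd.pos; omega))
            rw [pow_zero, Module.End.one_apply] at h
            rw [h]; simp
          rw [hexp, hmove, NM_top hg hε n d v' (hu.kill hv' (by omega)), map_smul,
            LinearMap.smul_apply, e1, hu.polar hv' hw, hvw', hdodd.neg_one_pow, hn', hq, hα]
          simp only [smul_eq_mul, mul_one, mul_zero, add_zero]
          field_simp
          ring
        · rw [hexp, hmove, NM_zero hg hε n d v' (hu.kill hv' hge), hu.kill hw hge, hz n hge]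
          simp

theorem commOn_chains [Fintype F] (hu : Unip ω g g' ε P j) (h2 : (2 : F) ≠ 0) {v w : V}
    (hv : v ∈ P) (hw : w ∈ P) (hvw : ω ((NN g ε ^ j) v) w = 1)
    (hv0 : ∀ n, ω ((NN g ε ^ n) v) v = 0) (hw0 : ∀ n, ω ((NN g ε ^ n) w) w = 0) :
    CommOn ω g (pspan g ε j v w) := by
  obtain ⟨hs, hg, hε⟩ := And.intro hu.hs (And.intro hu.hg hu.eps)
  set Q := pspan g ε j v w with hQ
  have hinv := pspan_inv hu hv hw
  have hinv' := hg.map_mem hinv
  let Φ : (Fin (j + 1) ⊕ Fin (j + 1) → F) →ₗ[F] V := Fintype.linearCombination F (pb g ε j v w)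
  let Ψ : (Fin (j + 1) ⊕ Fin (j + 1) → F) →ₗ[F] V := Fintype.linearCombination F
    (Sum.elim (fun i : Fin (j + 1) => (NN g' ε ^ (i : ℕ)) w)
      fun i : Fin (j + 1) => -(NN g' ε ^ (i : ℕ)) v)
  have hker : LinearMap.ker Φ = ⊥ := by
    rw [LinearMap.ker_eq_bot']
    intro c hc
    rw [Fintype.linearCombination_apply] at hc
    exact funext (Fintype.linearIndependent_iff.1 (pb_indep hu hv hw hvw) c hc)
  obtain ⟨ψ, hψ⟩ := Φ.exists_leftInverse_of_injective hker
  set a := Ψ ∘ₗ ψ with ha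
  have hab : ∀ c, a (pb g ε j v w c) = Ψ (Pi.single c 1) := fun c => by
    have e : pb g ε j v w c = Φ (Pi.single c 1) := by simp [Φ]
    rw [e, ha, LinearMap.comp_apply, ← LinearMap.comp_apply ψ Φ, hψ, LinearMap.id_apply]
  have hMk : ∀ x ∈ P, ∀ n, j + 1 ≤ n → (NN g' ε ^ n) x = 0 := fun x hx n hn => by
    simpa using NM_zero hg hε 0 n x (by simpa using hu.kill hx hn)
  have hav : ∀ n, a ((NN g ε ^ n) v) = (NN g' ε ^ n) w := fun n => by
    rcases Nat.lt_or_ge n (j + 1) with hn | hn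
    · rw [show (NN g ε ^ n) v = pb g ε j v w (.inl ⟨n, hn⟩) from rfl, hab]
      simp [Ψ]
    · rw [hu.kill hv hn, map_zero, hMk w hw n hn]
  have haw : ∀ n, a ((NN g ε ^ n) w) = -(NN g' ε ^ n) v := fun n => by
    rcases Nat.lt_or_ge n (j + 1) with hn | hn
    · rw [show (NN g ε ^ n) w = pb g ε j v w (.inr ⟨n, hn⟩) from rfl, hab]
      simp [Ψ]
    · rw [hu.kill hw hn, map_zero, hMk v hv n hn, neg_zero]
  have haQ : ∀ x ∈ Q, a x ∈ Q := by
    intro x hx
    induction hx using Submodule.span_induction with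
    | mem z hz =>
      obtain ⟨i | i, rfl⟩ := hz
      · simp only [pb, Sum.elim_inl, hav]
        exact pow_apply_mem (NN_mem hinv') _ (right_mem_pspan g ε j v w)
      · simp only [pb, Sum.elim_inr, haw]
        exact Submodule.neg_mem _ (pow_apply_mem (NN_mem hinv') _ (left_mem_pspan g ε j v w))
    | zero => simp
    | add x y _ _ h1 h3 => rw [map_add]; exact Submodule.add_mem _ h1 h3
    | smul c x _ h1 => rw [map_smul]; exact Submodule.smul_mem _ c h1
  have haN : ∀ x ∈ Q, a (NN g ε x) = NN g' ε (a x) := by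
    intro x hx
    induction hx using Submodule.span_induction with
    | mem z hz =>
      obtain ⟨i | i, rfl⟩ := hz
      · simp only [pb, Sum.elim_inl, ← Module.End.mul_apply (NN g ε), ← pow_succ', hav]
        rw [pow_succ', Module.End.mul_apply]
      · simp only [pb, Sum.elim_inr, ← Module.End.mul_apply (NN g ε), ← pow_succ', haw, map_neg]
        rw [pow_succ', Module.End.mul_apply]
    | zero => simp
    | add x y _ _ h1 h3 => simp only [map_add, h1, h3]
    | smul c x _ h1 => simp only [map_smul, h1]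
  have hag : ∀ x ∈ Q, a (g x) = g' (a x) := fun x hx => by
    have h := haN x hx
    simp only [NN_apply, map_sub, map_smul] at h
    exact sub_left_inj.1 h
  have hag' : ∀ x ∈ Q, a (g' x) = g (a x) := fun x hx => by
    have h := hag (g' x) (hinv' x hx)
    rw [hg.apply] at h
    rw [h, hg.apply]
  have haM : ∀ n, ∀ x ∈ Q, a ((NN g' ε ^ n) x) = (NN g ε ^ n) (a x) := by
    intro n
    induction n with
    | zero => intro x _; rfl
    | succ n ih =>
      intro x hx
      have hm : (NN g' ε ^ n) x ∈ Q := pow_apply_mem (NN_mem hinv') n hx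
      rw [pow_succ', Module.End.mul_apply, NN_apply, map_sub, map_smul, hag' _ hm, ih x hx,
        pow_succ', Module.End.mul_apply, NN_apply]
  have hav0 : a v = w := by simpa using hav 0
  have haw0 : a w = -v := by simpa using haw 0
  have ha2 : ∀ x ∈ Q, a (a x) = -x := by
    intro x hx
    induction hx using Submodule.span_induction with
    | mem z hz =>
      obtain ⟨i | i, rfl⟩ := hz
      · simp only [pb, Sum.elim_inl, hav]
        rw [haM _ _ (right_mem_pspan g ε j v w), haw0, map_neg]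
      · simp only [pb, Sum.elim_inr, haw, map_neg]
        rw [haM _ _ (left_mem_pspan g ε j v w), hav0]
    | zero => simp
    | add x y _ _ h1 h3 => simp only [map_add, h1, h3, neg_add]
    | smul c x _ h1 => simp only [map_smul, h1, smul_neg]
  have hcv : ∀ n, (NN g ε ^ n) v ∈ Cyc g v := fun n =>
    pow_apply_mem (NN_mem (cyc_inv g v)) n (self_mem_cyc g v)
  have hcv' : ∀ n, (NN g' ε ^ n) v ∈ Cyc g v := fun n =>
    pow_apply_mem (NN_mem (hg.map_mem (cyc_inv g v))) n (self_mem_cyc g v)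
  have hcw : ∀ n, (NN g ε ^ n) w ∈ Cyc g w := fun n =>
    pow_apply_mem (NN_mem (cyc_inv g w)) n (self_mem_cyc g w)
  have hcw' : ∀ n, (NN g' ε ^ n) w ∈ Cyc g w := fun n =>
    pow_apply_mem (NN_mem (hg.map_mem (cyc_inv g w))) n (self_mem_cyc g w)
  have hvw' : ∀ m n, ω ((NN g' ε ^ n) v) ((NN g' ε ^ m) w) =
      ω ((NN g ε ^ m) v) ((NN g ε ^ n) w) := fun m n => by
    rw [← adjN_pow hg, ← adjN_pow hg.symm, ← Module.End.mul_apply, ← Module.End.mul_apply,
      ((commute_NM hg ε).pow_pow m n).eq]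
  have hbase : ∀ c c', ω (a (pb g ε j v w c)) (a (pb g ε j v w c')) =
      ω (pb g ε j v w c) (pb g ε j v w c') := by
    rintro (i | i) (l | l) <;> simp only [pb, Sum.elim_inl, Sum.elim_inr, hav, haw, map_neg,
      LinearMap.neg_apply, neg_neg]
    · rw [cyc_isotropic hg hw0 _ (hcw' _) _ (hcw' _), cyc_isotropic hg hv0 _ (hcv _) _ (hcv _)]
    · rw [hs.swap ((NN g' ε ^ (l : ℕ)) v), neg_neg, hvw']
    · rw [hvw', ← hs.swap]
    · rw [cyc_isotropic hg hw0 _ (hcw _) _ (hcw _), cyc_isotropic hg hv0 _ (hcv' _) _ (hcv' _)]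
  have haiso : ∀ x ∈ Q, ∀ y ∈ Q, ω (a x) (a y) = ω x y := by
    intro x hx
    induction hx using Submodule.span_induction with
    | mem z hz =>
      obtain ⟨c, rfl⟩ := hz
      intro y hy
      induction hy using Submodule.span_induction with
      | mem z hz => obtain ⟨c', rfl⟩ := hz; exact hbase c c'
      | zero => simp
      | add x y _ _ h1 h3 => simp only [map_add, h1, h3]
      | smul c x _ h1 => simp only [map_smul, h1]
    | zero => intro y _; simp
    | add x y _ _ h1 h3 => intro z hz; simp only [map_add, LinearMap.add_apply, h1 z hz, h3 z hz]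
    | smul c x _ h1 => intro z hz; simp only [map_smul, LinearMap.smul_apply, h1 z hz]
  refine commOn_of_real hs h2 (pspan_nd hu hv hw hvw) hinv hg.iso haQ ha2 haiso fun x hx => ?_
  rw [hag x hx, hg.apply, ha2 x hx]

/-- A piece of `-1` type. -/
def WPiece (ω : LinearMap.BilinForm F V) (g : Module.End F V) (Q : Submodule F V) : Prop :=
  (2 : F) ≠ 0 ∧ ∃ r : ℕ, finrank F Q = 2 * (2 * r + 1) ∧ CommOn ω g Q ∧ OneAt ω (-g) Q ∧
    (r = 0 → ∀ x ∈ Q, g x = -x)

/-- A unipotent (up to sign) isometry with degenerate top form has a good piece. -/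
theorem exists_piece [Fintype F] (hu : Unip ω g g' ε P j) {x : V} (hx : x ∈ P)
    (hne : (NN g ε ^ j) x ≠ 0) :
    ∃ Q ≤ P, Q ≠ ⊥ ∧ Nd ω Q ∧ (∀ y ∈ Q, g y ∈ Q) ∧ (OneAt ω g Q ∨ WPiece ω g Q) := by
  obtain ⟨y, hy, hxy⟩ : ∃ y ∈ P, ω ((NN g ε ^ j) x) y = 1 := by
    by_contra hno
    refine hne (hu.nd _ (hu.powN_mem j hx) fun y hy => ?_)
    by_contra h
    exact hno ⟨(ω ((NN g ε ^ j) x) y)⁻¹ • y, P.smul_mem _ hy, by simp [h]⟩
  have mk : ∀ v ∈ P, ∀ w ∈ P, ω ((NN g ε ^ j) v) w = 1 → pspan g ε j v w ≠ ⊥ ∧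
      OneAt ω (ε • g) (pspan g ε j v w) := fun v hv w hw hvw => by
    have hd := pspan_finrank hu hv hw hvw
    refine ⟨fun e => ?_, oneAt_unip (hu.restrict (pspan_le hu hv hw) (pspan_nd hu hv hw hvw)
      (pspan_inv hu hv hw)) hd (left_mem_pspan g ε j v w) (right_mem_pspan g ε j v w) hvw⟩
    rw [e, finrank_bot] at hd
    omega
  by_cases hone : ε = 1
  · obtain ⟨h1, h2⟩ := mk x hx y hy hxy
    subst hone
    rw [one_smul] at h2
    exact ⟨_, pspan_le hu hx hy, h1, pspan_nd hu hx hy hxy, pspan_inv hu hx hy, .inl h2⟩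
  have hneg : ε = -1 := (mul_self_eq_one_iff.1 hu.eps).resolve_left hone
  have h2 : (2 : F) ≠ 0 := fun h => hone (by linear_combination hneg - h)
  obtain ⟨v, hv, hvy, hv0⟩ := newton hu h2 hx hy hxy (j + 1)
  have hyv : ω ((NN g ε ^ j) y) (-v) = 1 := by rw [map_neg, hu.polar hv hy, hvy, neg_neg]
  obtain ⟨w, hw, hwv, hw0⟩ := newton hu h2 hy (P.neg_mem hv) hyv (j + 1)
  have hvw : ω ((NN g ε ^ j) v) w = 1 := by
    rw [map_neg, hu.polar hv hw, neg_neg] at hwv
    exact hwv
  obtain ⟨hb, h1⟩ := mk v hv w hw hvw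
  obtain ⟨r, hr⟩ := unip_even hu h2 hv hw hvw
  have hcomm := commOn_chains hu h2 hv hw hvw (fun n => hv0 n (by omega)) fun n => hw0 n (by omega)
  refine ⟨_, pspan_le hu hv hw, hb, pspan_nd hu hv hw hvw, pspan_inv hu hv hw, .inr
    ⟨h2, r, by rw [pspan_finrank hu hv hw hvw]; omega, hcomm, ?_, fun h z hz => ?_⟩⟩
  · have e : ε • g = -g := by rw [hneg]; exact neg_one_smul F g
    exact e ▸ h1
  · have hk := hu.nil z (pspan_le hu hv hw hz)
    rw [show j + 1 = 1 by omega, pow_one, NN_apply, sub_eq_zero, hneg, neg_one_smul] at hk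
    exact hk

end CfsgLib.OreSp
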