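import Mathlib

/-!
# Commutators in symplectic groups from the Siegel parabolic

If the upper left block `M` of a symplectic matrix `g` satisfies `M * h = S * h * S⁻¹` for some `h`
without a nonzero invariant bilinear form, then `g` is a commutator.
-/

set_option autoImplicit false

namespace CfsgLib.OreSp

open Matrix

variable {F : Type*} [Field F] {ι : Type*} [Fintype ι] [DecidableEq ι]

/-- `h` and its transpose fix no nonzero bilinear form. -/
def Good (h : Matrix ι ι F) : Prop :=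
  (∀ P : Matrix ι ι F, hᵀ * P * h = P → P = 0) ∧ ∀ P : Matrix ι ι F, h * P * hᵀ = P → P = 0

/-- The block `M` multiplies some good matrix into a conjugate of itself. -/
def Fac (M : Matrix ι ι F) : Prop :=
  ∃ h S : (Matrix ι ι F)ˣ, Good (h : Matrix ι ι F) ∧
    M * (h : Matrix ι ι F) = (S : Matrix ι ι F) * h * (↑S⁻¹ : Matrix ι ι F)

/-- Lower Siegel unipotent. -/
def lo (X : Matrix ι ι F) (hX : Xᵀ = X) : symplecticGroup ι F :=
  ⟨fromBlocks 1 0 X 1, by rw [SymplecticGroup.fromBlocks_mem_iff]; simp [hX]⟩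

/-- Upper Siegel unipotent. -/
def up (Y : Matrix ι ι F) (hY : Yᵀ = Y) : symplecticGroup ι F :=
  ⟨fromBlocks 1 Y 0 1, by rw [SymplecticGroup.fromBlocks_mem_iff]; simp [hY]⟩

/-- The Levi embedding. -/
def dg (A : (Matrix ι ι F)ˣ) : symplecticGroup ι F :=
  ⟨fromBlocks (A : Matrix ι ι F) 0 0 (↑A⁻¹ : Matrix ι ι F)ᵀ, by
    rw [SymplecticGroup.fromBlocks_mem_iff]; simp [← transpose_mul]⟩

theorem dg_mul (A B : (Matrix ι ι F)ˣ) : dg (A * B) = dg A * dg B :=
  Subtype.ext (by simp [dg, fromBlocks_multiply, transpose_mul])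

theorem dg_one : dg (1 : (Matrix ι ι F)ˣ) = 1 :=
  Subtype.ext (by simp [dg, fromBlocks_one])

theorem dg_inv (A : (Matrix ι ι F)ˣ) : dg A⁻¹ = (dg A)⁻¹ :=
  eq_inv_of_mul_eq_one_left (by rw [← dg_mul, inv_mul_cancel, dg_one])

theorem exists_sym {A : Matrix ι ι F} (hA : ∀ P : Matrix ι ι F, Aᵀ * P * A = P → P = 0)
    {R : Matrix ι ι F} (hR : Rᵀ = R) : ∃ P : Matrix ι ι F, Pᵀ = P ∧ Aᵀ * P * A - P = R := by
  let sym : Submodule F (Matrix ι ι F) :=
    { carrier := {P | Pᵀ = P}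
      add_mem' := fun {a b} ha hb => by
        simp only [Set.mem_ofPred_eq] at *
        rw [transpose_add, ha, hb]
      zero_mem' := transpose_zero
      smul_mem' := fun c a ha => by
        simp only [Set.mem_ofPred_eq] at *
        rw [transpose_smul, ha] }
  have hmem : ∀ P : sym, Aᵀ * (P : Matrix ι ι F) * A - (P : Matrix ι ι F) ∈ sym := fun P => by
    have h : (P : Matrix ι ι F)ᵀ = P := P.2
    show (Aᵀ * (P : Matrix ι ι F) * A - (P : Matrix ι ι F))ᵀ = _
    rw [transpose_sub, transpose_mul, transpose_mul, transpose_transpose, h, Matrix.mul_assoc]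
  let φ : sym →ₗ[F] sym :=
    { toFun := fun P => ⟨_, hmem P⟩
      map_add' := fun a b => Subtype.ext (by
        simp only [Submodule.coe_add, Matrix.mul_add, Matrix.add_mul]; abel)
      map_smul' := fun c a => Subtype.ext (by
        simp [Matrix.mul_smul, Matrix.smul_mul, smul_sub]) }
  have hinj : Function.Injective φ := by
    rw [injective_iff_map_eq_zero]
    intro P hP
    exact Subtype.ext (hA P (sub_eq_zero.1 (congrArg Subtype.val hP)))
  obtain ⟨P, hP⟩ := (LinearMap.injective_iff_surjective.1 hinj) ⟨R, hR⟩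
  exact ⟨P, P.2, congrArg Subtype.val hP⟩

theorem good_conj {h S : (Matrix ι ι F)ˣ} (hg : Good (h : Matrix ι ι F)) (P : Matrix ι ι F)
    (hP : ((S : Matrix ι ι F) * (h : Matrix ι ι F) * (↑S⁻¹ : Matrix ι ι F))ᵀ * P *
      ((S : Matrix ι ι F) * (h : Matrix ι ι F) * (↑S⁻¹ : Matrix ι ι F)) = P) : P = 0 := by
  have h0 : (h : Matrix ι ι F)ᵀ * ((S : Matrix ι ι F)ᵀ * P * (S : Matrix ι ι F)) * (h : Matrix ι ι F) =
      (S : Matrix ι ι F)ᵀ * P * (S : Matrix ι ι F) := by
    have := congrArg (fun X => (S : Matrix ι ι F)ᵀ * X * (S : Matrix ι ι F)) hP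
    simp only [transpose_mul] at this
    refine Eq.trans ?_ this
    simp only [Matrix.mul_assoc, Units.inv_mul, Units.inv_mul_cancel_left, mul_one]
    rw [← Matrix.mul_assoc (S : Matrix ι ι F)ᵀ (↑S⁻¹ : Matrix ι ι F)ᵀ, ← transpose_mul, Units.inv_mul,
      transpose_one, Matrix.one_mul]
  have h1 := congrArg (fun X => (↑S⁻¹ : Matrix ι ι F)ᵀ * X * (↑S⁻¹ : Matrix ι ι F)) (hg.1 _ h0)
  simpa [← Matrix.mul_assoc, ← transpose_mul, Matrix.mul_assoc P] using h1

/-- A symplectic matrix with good upper left block is a commutator. -/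
theorem isComm_of_fac (g : symplecticGroup ι F) {M : Matrix ι ι F}
    (hM : (g : Matrix (ι ⊕ ι) (ι ⊕ ι) F).toBlocks₁₁ = M) (hfac : Fac M) :
    ∃ a b : symplecticGroup ι F, g = a * b * a⁻¹ * b⁻¹ := by
  obtain ⟨h, S, hg, he⟩ := hfac
  obtain ⟨Mu, hMu⟩ : ∃ Mu : (Matrix ι ι F)ˣ, Mu = S * h * S⁻¹ * h⁻¹ := ⟨_, rfl⟩
  have hMv : (Mu : Matrix ι ι F) = M := by
    rw [hMu, Units.val_mul, Units.val_mul, Units.val_mul, ← he, Matrix.mul_assoc, Units.mul_inv,
      Matrix.mul_one]
  obtain ⟨B, C, D, hgb⟩ : ∃ B C D, (g : Matrix (ι ⊕ ι) (ι ⊕ ι) F) = fromBlocks M B C D :=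
    ⟨_, _, _, by rw [← hM, fromBlocks_toBlocks]⟩
  have h1 := SymplecticGroup.fromBlocks_mem_iff.1 (hgb ▸ g.2)
  have h2 : M * Bᵀ = B * Mᵀ := by
    have h3 := SymplecticGroup.transpose_mem g.2
    rw [hgb, fromBlocks_transpose, SymplecticGroup.fromBlocks_mem_iff] at h3
    simpa using h3.1
  set N : Matrix ι ι F := ↑Mu⁻¹ with hN
  have hMN : M * N = 1 := by rw [← hMv, hN, Units.mul_inv]
  have hNM : N * M = 1 := by rw [← hMv, hN, Units.inv_mul]
  have hNt : Nᵀ * Mᵀ = 1 := by rw [← transpose_mul, hMN, transpose_one]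
  have hMt : Mᵀ * Nᵀ = 1 := by rw [← transpose_mul, hNM, transpose_one]
  have hX : (C * N)ᵀ = C * N := by
    calc (C * N)ᵀ = Nᵀ * (Cᵀ * M) * N := by
          rw [transpose_mul, Matrix.mul_assoc Nᵀ, Matrix.mul_assoc Cᵀ, hMN, Matrix.mul_one]
      _ = C * N := by rw [← h1.1, ← Matrix.mul_assoc Nᵀ, hNt, Matrix.one_mul]
  have hY : (N * B)ᵀ = N * B := by
    calc (N * B)ᵀ = N * (M * Bᵀ) * Nᵀ := by rw [transpose_mul, ← Matrix.mul_assoc N M, hNM, Matrix.one_mul]
      _ = N * B := by rw [h2, Matrix.mul_assoc N, Matrix.mul_assoc B, hMt, Matrix.mul_one]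
  have hD : D = Nᵀ + C * N * B := by
    have h4 : Mᵀ * D = 1 + Cᵀ * B := by rw [← h1.2.2]; abel
    calc D = Nᵀ * (Mᵀ * D) := by rw [← Matrix.mul_assoc, hNt, Matrix.one_mul]
      _ = Nᵀ + (C * N)ᵀ * B := by rw [h4, Matrix.mul_add, Matrix.mul_one, transpose_mul, Matrix.mul_assoc]
      _ = _ := by rw [hX]
  have hgf : g = lo (C * N) hX * dg Mu * up (N * B) hY := by
    refine Subtype.ext ?_
    simp only [lo, dg, up, Submonoid.coe_mul, fromBlocks_multiply]
    rw [hgb, hMv, ← hN]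
    simp only [Matrix.one_mul, Matrix.mul_one, Matrix.zero_mul, Matrix.mul_zero, add_zero, zero_add]
    congr 1
    · rw [← Matrix.mul_assoc, hMN, Matrix.one_mul]
    · rw [Matrix.mul_assoc, hNM, Matrix.mul_one]
    · rw [Matrix.mul_assoc C N M, hNM, Matrix.mul_one, hD, add_comm, Matrix.mul_assoc C]
  set A : (Matrix ι ι F)ˣ := S * h * S⁻¹ with hA
  obtain ⟨P, hPs, hP⟩ := exists_sym (A := (A : Matrix ι ι F))
    (fun P hP => good_conj (S := S) hg P (by simpa [hA] using hP))
    (R := (A : Matrix ι ι F)ᵀ * (C * N) * A)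
    (by rw [transpose_mul, transpose_mul, transpose_transpose, hX]; simp only [Matrix.mul_assoc])
  obtain ⟨Q, hQs, hQ⟩ := exists_sym (A := (h : Matrix ι ι F)ᵀ)
    (fun P hP => hg.2 P (by simpa using hP)) hY
  rw [transpose_transpose] at hQ
  have hl : lo (C * N) hX * dg A * lo P hPs = lo P hPs * dg A := by
    refine Subtype.ext ?_
    simp only [lo, dg, Submonoid.coe_mul, fromBlocks_multiply]
    simp only [Matrix.one_mul, Matrix.mul_one, Matrix.zero_mul, Matrix.mul_zero, add_zero, zero_add]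
    congr 1
    calc C * N * (A : Matrix ι ι F) + (↑A⁻¹ : Matrix ι ι F)ᵀ * P
        = (↑A⁻¹ : Matrix ι ι F)ᵀ * ((A : Matrix ι ι F)ᵀ * (C * N) * A + P) := by
          rw [Matrix.mul_add, ← Matrix.mul_assoc, ← Matrix.mul_assoc, ← transpose_mul, Units.mul_inv,
            transpose_one, Matrix.one_mul]
      _ = (↑A⁻¹ : Matrix ι ι F)ᵀ * ((A : Matrix ι ι F)ᵀ * P * A) := by rw [← hP, sub_add_cancel]
      _ = P * A := by
          rw [← Matrix.mul_assoc, ← Matrix.mul_assoc, ← transpose_mul, Units.mul_inv, transpose_one,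
            Matrix.one_mul]
  have hu : up Q hQs * dg h⁻¹ = dg h⁻¹ * up (N * B) hY * up Q hQs := by
    refine Subtype.ext ?_
    simp only [up, dg, Submonoid.coe_mul, fromBlocks_multiply, inv_inv]
    simp only [Matrix.one_mul, Matrix.mul_one, Matrix.zero_mul, Matrix.mul_zero, add_zero, zero_add]
    congr 1
    rw [← Matrix.mul_add, ← hQ, add_sub_cancel, ← Matrix.mul_assoc, ← Matrix.mul_assoc, Units.inv_mul,
      Matrix.one_mul]
  have hdM : dg Mu = dg A * dg h⁻¹ := by rw [← dg_mul, hMu]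
  have hdA : dg A = dg S * dg h * (dg S)⁻¹ := by rw [hA, dg_mul, dg_mul, dg_inv]
  have h5 : lo (C * N) hX * dg A = lo P hPs * dg A * (lo P hPs)⁻¹ := eq_mul_inv_of_mul_eq hl
  have h6 : dg h⁻¹ * up (N * B) hY = up Q hQs * dg h⁻¹ * (up Q hQs)⁻¹ := eq_mul_inv_of_mul_eq hu.symm
  refine ⟨lo P hPs * dg S * (up Q hQs)⁻¹, up Q hQs * dg h * (up Q hQs)⁻¹, ?_⟩
  calc g = (lo (C * N) hX * dg A) * (dg h⁻¹ * up (N * B) hY) := by rw [hgf, hdM]; group
    _ = _ := by rw [h5, h6, hdA, dg_inv]; group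

theorem fac_one {h : (Matrix ι ι F)ˣ} (hg : Good (h : Matrix ι ι F)) : Fac (1 : Matrix ι ι F) :=
  ⟨h, 1, hg, by simp⟩

theorem good_of_aeval {h : (Matrix ι ι F)ˣ} (f : Polynomial F)
    (h0 : Polynomial.aeval (h : Matrix ι ι F) f = 0)
    (h1 : IsUnit (Polynomial.aeval (↑h⁻¹ : Matrix ι ι F) f)) : Good (h : Matrix ι ι F) := by
  have hpow : ∀ (f : Polynomial F) (A B P : Matrix ι ι F), A * P = P * B →
      Polynomial.aeval A f * P = P * Polynomial.aeval B f := by
    intro f A B P hAB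
    clear h0 h1
    induction f using Polynomial.induction_on' with
    | add p q hp hq => rw [map_add, map_add, Matrix.add_mul, Matrix.mul_add, hp, hq]
    | monomial n c =>
      have hn : A ^ n * P = P * B ^ n := (SemiconjBy.pow_right (show SemiconjBy P B A from hAB.symm) n).eq.symm
      rw [Polynomial.aeval_monomial, Polynomial.aeval_monomial, Matrix.mul_assoc, hn,
        ← Algebra.smul_def, ← Algebra.smul_def, Matrix.mul_smul]
  have htr : ∀ (f : Polynomial F) (A : Matrix ι ι F), Polynomial.aeval Aᵀ f = (Polynomial.aeval A f)ᵀ := by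
    intro f A
    clear h0 h1
    induction f using Polynomial.induction_on' with
    | add p q hp hq => rw [map_add, map_add, hp, hq, transpose_add]
    | monomial n c =>
      rw [Polynomial.aeval_monomial, Polynomial.aeval_monomial, ← Algebra.smul_def, ← Algebra.smul_def,
        transpose_smul, transpose_pow]
  constructor
  · intro P hP
    have h2 : (h : Matrix ι ι F)ᵀ * P = P * (↑h⁻¹ : Matrix ι ι F) := by
      conv_rhs => rw [← hP]
      rw [Matrix.mul_assoc _ (h : Matrix ι ι F), Units.mul_inv, Matrix.mul_one]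
    have h3 := hpow f _ _ P h2
    rw [htr f, h0, transpose_zero, Matrix.zero_mul] at h3
    exact h1.mul_left_eq_zero.1 h3.symm
  · intro P hP
    have h2 : (h : Matrix ι ι F) * P = P * (↑h⁻¹ : Matrix ι ι F)ᵀ := by
      conv_rhs => rw [← hP]
      rw [Matrix.mul_assoc _ (h : Matrix ι ι F)ᵀ, ← transpose_mul, Units.inv_mul, transpose_one,
        Matrix.mul_one]
    have h3 := hpow f _ _ P h2
    rw [htr f, h0, Matrix.zero_mul] at h3
    exact ((Matrix.isUnit_transpose (A := _)).2 h1).mul_left_eq_zero.1 h3.symm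

/-- A good matrix exists outside `(2,1)`, `(2,2)` and `(3,1)`. -/
theorem exists_good [Fintype F] (n : ℕ) (hn : 1 ≤ n) (h1 : n = 1 → 4 ≤ Fintype.card F)
    (h2 : n = 2 → 3 ≤ Fintype.card F) :
    ∃ h : (Matrix (Fin n) (Fin n) F)ˣ, Good (h : Matrix (Fin n) (Fin n) F) := by
  obtain ⟨p, hp⟩ := CharP.exists F
  haveI : Fact p.Prime := ⟨CharP.char_is_prime F p⟩
  haveI : NeZero n := ⟨by omega⟩
  set q := Nat.card F with hq
  have hq2 : 2 ≤ q := Finite.one_lt_card
  let E := FiniteField.Extension F p n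
  haveI : Fintype E := Fintype.ofFinite E
  obtain ⟨μ, hμ⟩ := IsCyclic.exists_generator (α := Eˣ)
  have hord : orderOf μ = q ^ n - 1 := by
    rw [orderOf_eq_card_of_forall_mem_zpowers hμ, Nat.card_units, FiniteField.natCard_extension]
  have hne : ∀ i, i < n → (μ : E) ^ (q ^ i + 1) ≠ 1 := by
    intro i hi he
    have h3 : μ ^ (q ^ i + 1) = 1 := Units.ext (by simpa using he)
    have h4 := orderOf_dvd_of_pow_eq_one h3
    rw [hord] at h4
    have h5 := Nat.le_of_dvd (by omega) h4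
    have h6 : q ^ i ≤ q ^ (n - 1) := Nat.pow_le_pow_right (by omega) (by omega)
    have h7 : q ^ n = q * q ^ (n - 1) := by
      rw [← pow_succ', Nat.sub_add_cancel hn]
    have hqF : q = Fintype.card F := Nat.card_eq_fintype_card
    rcases Nat.lt_or_ge q 3 with hlt | hge
    · have hn3 : 3 ≤ n := by
        rcases Nat.lt_or_ge n 3 with hh | hh
        · exfalso
          rcases (show n = 1 ∨ n = 2 by omega) with e | e
          · have := h1 e; omega
          · have := h2 e; omega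
        · exact hh
      have h8 : 2 ^ 2 ≤ q ^ (n - 1) := le_trans (Nat.pow_le_pow_left hq2 2)
        (Nat.pow_le_pow_right (by omega) (by omega))
      have : 2 * q ^ (n - 1) ≤ q * q ^ (n - 1) := Nat.mul_le_mul_right _ hq2
      omega
    · rcases Nat.eq_or_lt_of_le hn with e | hn1
      · have := h1 e.symm
        rw [← e] at h5 h6
        simp only [pow_one, Nat.sub_self, pow_zero] at h5 h6
        omega
      · have h8 : 3 ^ 1 ≤ q ^ (n - 1) := le_trans (Nat.pow_le_pow_left hge 1)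
          (Nat.pow_le_pow_right (by omega) (by omega))
        have : 3 * q ^ (n - 1) ≤ q * q ^ (n - 1) := Nat.mul_le_mul_right _ hge
        omega
  set f := minpoly F (μ : E) with hf
  have hint : IsIntegral F (μ : E) := IsIntegral.of_finite F _
  have hinv : Polynomial.aeval (↑μ⁻¹ : E) f ≠ 0 := by
    intro h0
    have he : minpoly F (μ : E) = minpoly F (↑μ⁻¹ : E) :=
      minpoly.eq_of_irreducible_of_monic (minpoly.irreducible hint) h0 (minpoly.monic hint)
    obtain ⟨σ, hσ⟩ := (Normal.minpoly_eq_iff_mem_orbit (F := F) (E := E)).1 he.symm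
    obtain ⟨i, hi, hie⟩ := FiniteField.Extension.exists_frob_pow_eq F p n σ
    have h3 : (↑μ⁻¹ : E) = (μ : E) ^ (q ^ i) := by
      rw [← hσ, ← hie]; exact FiniteField.Extension.frob_iterate_apply F p n i
    apply hne i hi
    rw [pow_succ, ← h3, Units.inv_mul]
  let b : Module.Basis (Fin n) F E := Module.finBasisOfFinrankEq F E (FiniteField.finrank_extension F p n)
  let L := Algebra.leftMulMatrix b
  refine ⟨Units.map (L : E →* Matrix (Fin n) (Fin n) F) μ, good_of_aeval f ?_ ?_⟩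
  · show Polynomial.aeval (L (μ : E)) f = 0
    rw [Polynomial.aeval_algHom_apply, hf, minpoly.aeval, map_zero]
  · rw [← map_inv]
    show IsUnit (Polynomial.aeval (L (↑μ⁻¹ : E)) f)
    rw [Polynomial.aeval_algHom_apply]
    exact (isUnit_iff_ne_zero.2 hinv).map L

/-- `-1` in twice the dimension of a good matrix. -/
theorem fac_neg_one {h : (Matrix ι ι F)ˣ} (hg : Good (h : Matrix ι ι F)) :
    Fac (-1 : Matrix (ι ⊕ ι) (ι ⊕ ι) F) := by
  let H : (Matrix (ι ⊕ ι) (ι ⊕ ι) F)ˣ :=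
    ⟨fromBlocks 0 1 (h : Matrix ι ι F) 0, fromBlocks 0 (↑h⁻¹ : Matrix ι ι F) 1 0,
      by simp [fromBlocks_multiply, fromBlocks_one], by simp [fromBlocks_multiply, fromBlocks_one]⟩
  let S : (Matrix (ι ⊕ ι) (ι ⊕ ι) F)ˣ :=
    ⟨fromBlocks 1 0 0 (-1), fromBlocks 1 0 0 (-1),
      by simp [fromBlocks_multiply, fromBlocks_one], by simp [fromBlocks_multiply, fromBlocks_one]⟩
  refine ⟨H, S, ?_, ?_⟩
  · have key : ∀ K : Matrix ι ι F, (∀ P, Kᵀ * P * K = P → P = 0) →
        ∀ P : Matrix (ι ⊕ ι) (ι ⊕ ι) F,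
          (fromBlocks K 0 0 K)ᵀ * P * fromBlocks K 0 0 K = P → P = 0 := by
      intro K hK P hP
      obtain ⟨a, b, c, d, rfl⟩ : ∃ a b c d, P = fromBlocks a b c d :=
        ⟨_, _, _, _, (fromBlocks_toBlocks P).symm⟩
      rw [fromBlocks_transpose, fromBlocks_multiply, fromBlocks_multiply] at hP
      simp only [transpose_zero, Matrix.zero_mul, Matrix.mul_zero, add_zero, zero_add] at hP
      obtain ⟨e1, e2, e3, e4⟩ := fromBlocks_inj.1 hP
      rw [hK a e1, hK b e2, hK c e3, hK d e4, fromBlocks_zero]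
    have hsq : (H : Matrix (ι ⊕ ι) (ι ⊕ ι) F) * (H : Matrix (ι ⊕ ι) (ι ⊕ ι) F) =
        fromBlocks (h : Matrix ι ι F) 0 0 (h : Matrix ι ι F) := by
      simp [H, fromBlocks_multiply]
    constructor
    · intro P hP
      refine key _ hg.1 P ?_
      conv_rhs => rw [← hP]
      conv_rhs => arg 1; arg 2; rw [← hP]
      rw [← hsq, transpose_mul]
      simp only [Matrix.mul_assoc]
    · intro P hP
      refine key (h : Matrix ι ι F)ᵀ (fun Q hQ => hg.2 Q (by simpa using hQ)) P ?_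
      conv_rhs => rw [← hP]
      conv_rhs => arg 1; arg 2; rw [← hP]
      rw [show fromBlocks (h : Matrix ι ι F)ᵀ 0 0 (h : Matrix ι ι F)ᵀ =
        ((H : Matrix (ι ⊕ ι) (ι ⊕ ι) F) * (H : Matrix (ι ⊕ ι) (ι ⊕ ι) F))ᵀ by rw [hsq, fromBlocks_transpose]; simp,
        transpose_transpose, transpose_mul]
      simp only [Matrix.mul_assoc]
  · simp [H, S, fromBlocks_multiply, fromBlocks_neg]

end CfsgLib.OreSp
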