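import Cfsg.Agent.OreSp.Siegel

/-!
# Frames in a symplectic space and local commutators
-/

set_option autoImplicit false

namespace CfsgLib.OreSp

open Matrix Module LinearMap

variable {F : Type*} [Field F] {V : Type*} [AddCommGroup V] [Module F V]

/-- A nondegenerate alternating form. -/
structure Sym (ω : LinearMap.BilinForm F V) : Prop where
  alt : ∀ x, ω x x = 0
  nd : ∀ x, (∀ y, ω x y = 0) → x = 0

theorem Sym.swap {ω : LinearMap.BilinForm F V} (hs : Sym ω) (x y : V) : ω y x = -ω x y := by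
  have h := hs.alt (x + y)
  simp only [map_add, LinearMap.add_apply, hs.alt, zero_add, add_zero] at h
  linear_combination h

/-- Nondegeneracy of a subspace. -/
def Nd (ω : LinearMap.BilinForm F V) (P : Submodule F V) : Prop :=
  ∀ x ∈ P, (∀ y ∈ P, ω x y = 0) → x = 0

/-- Orthogonality of subspaces. -/
def Perp (ω : LinearMap.BilinForm F V) (P Q : Submodule F V) : Prop :=
  ∀ x ∈ P, ∀ y ∈ Q, ω x y = 0

theorem Perp.symm {ω : LinearMap.BilinForm F V} (hs : Sym ω) {P Q : Submodule F V} (h : Perp ω P Q) :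
    Perp ω Q P := fun x hx y hy => by rw [hs.swap, h y hy x hx, neg_zero]

/-- A symplectic basis of a subspace. -/
structure Frame (ω : LinearMap.BilinForm F V) (ι : Type*) [DecidableEq ι] where
  e : ι → V
  f : ι → V
  ee : ∀ i j, ω (e i) (e j) = 0
  ff : ∀ i j, ω (f i) (f j) = 0
  ef : ∀ i j, ω (e i) (f j) = if i = j then 1 else 0

namespace Frame

variable {ω : LinearMap.BilinForm F V} {ι : Type*} [Fintype ι] [DecidableEq ι] (fr : Frame ω ι)

/-- The vectors of a frame. -/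
def b : ι ⊕ ι → V := Sum.elim fr.e fr.f

/-- The subspace of a frame. -/
def space : Submodule F V := Submodule.span F (Set.range fr.b)

/-- The coordinates of a vector. -/
def coord : V →ₗ[F] (ι ⊕ ι → F) where
  toFun x := Sum.elim (fun i => ω x (fr.f i)) fun i => ω (fr.e i) x
  map_add' x y := by ext a; cases a <;> simp
  map_smul' c x := by ext a; cases a <;> simp

/-- The vector with given coordinates. -/
def vec : (ι ⊕ ι → F) →ₗ[F] V := Fintype.linearCombination F fr.b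

theorem b_mem (a : ι ⊕ ι) : fr.b a ∈ fr.space := Submodule.subset_span ⟨a, rfl⟩

theorem vec_mem (c : ι ⊕ ι → F) : fr.vec c ∈ fr.space := by
  rw [vec, Fintype.linearCombination_apply]
  exact Submodule.sum_mem _ fun a _ => Submodule.smul_mem _ _ (fr.b_mem a)

theorem vec_single (a : ι ⊕ ι) : fr.vec (Pi.single a 1) = fr.b a := by
  simp [vec]

theorem coord_b (hs : Sym ω) (a : ι ⊕ ι) : fr.coord (fr.b a) = Pi.single a 1 := by
  ext c
  cases a <;> cases c <;>
    simp [coord, b, fr.ee, fr.ff, fr.ef, hs.swap (fr.f _) (fr.e _), Pi.single_apply, eq_comm]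

theorem coord_vec (hs : Sym ω) (c : ι ⊕ ι → F) : fr.coord (fr.vec c) = c := by
  conv_rhs => rw [pi_eq_sum_univ' c]
  rw [vec, Fintype.linearCombination_apply, map_sum]
  exact Finset.sum_congr rfl fun a _ => by rw [map_smul, fr.coord_b hs]

theorem vec_coord (hs : Sym ω) {x : V} (hx : x ∈ fr.space) : fr.vec (fr.coord x) = x := by
  induction hx using Submodule.span_induction with
  | mem y hy => obtain ⟨a, rfl⟩ := hy; rw [fr.coord_b hs, fr.vec_single]
  | zero => simp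
  | add y z _ _ h1 h2 => rw [map_add, map_add, h1, h2]
  | smul c y _ h1 => rw [map_smul, map_smul, h1]

theorem coord_eq_zero {x : V} (hs : Sym ω) (hx : ∀ y ∈ fr.space, ω x y = 0) : fr.coord x = 0 := by
  ext a
  rcases a with i | i
  · exact hx _ (fr.b_mem (.inr i))
  · show ω (fr.e i) x = 0
    rw [hs.swap, show ω x (fr.e i) = 0 from hx _ (fr.b_mem (.inl i)), neg_zero]

theorem omega_b_left (hs : Sym ω) (a : ι ⊕ ι) (y : V) :
    ω (fr.b a) y = ((-J ι F) *ᵥ fr.coord y) a := by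
  rcases a with i | i
  · simp [b, coord, J, fromBlocks_neg, fromBlocks_mulVec]
  · simp [b, coord, J, fromBlocks_neg, fromBlocks_mulVec, hs.swap y (fr.f i), Matrix.neg_mulVec]

theorem omega_vec_left (hs : Sym ω) (c : ι ⊕ ι → F) (y : V) :
    ω (fr.vec c) y = c ⬝ᵥ (-J ι F) *ᵥ fr.coord y := by
  rw [vec, Fintype.linearCombination_apply, map_sum, LinearMap.sum_apply]
  refine Finset.sum_congr rfl fun a _ => ?_
  rw [map_smul, LinearMap.smul_apply, fr.omega_b_left hs, smul_eq_mul]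

theorem linearIndependent (hs : Sym ω) : LinearIndependent F fr.b :=
  Fintype.linearIndependent_iff.2 fun c hc => by
    have h := fr.coord_vec hs c
    rw [vec, Fintype.linearCombination_apply, hc, map_zero] at h
    exact fun i => by rw [← h]; rfl

theorem finrank_space (hs : Sym ω) : finrank F fr.space = 2 * Fintype.card ι := by
  rw [space, finrank_span_eq_card (fr.linearIndependent hs), Fintype.card_sum]; omega

/-- The linear map acting by `X` on the frame and trivially on its orthogonal. -/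
def lift (X : Matrix (ι ⊕ ι) (ι ⊕ ι) F) : Module.End F V :=
  LinearMap.id + fr.vec ∘ₗ (X - 1).mulVecLin ∘ₗ fr.coord

theorem lift_apply (X : Matrix (ι ⊕ ι) (ι ⊕ ι) F) (x : V) :
    fr.lift X x = x + fr.vec ((X - 1) *ᵥ fr.coord x) := rfl

theorem lift_mul (hs : Sym ω) (X Y : Matrix (ι ⊕ ι) (ι ⊕ ι) F) :
    fr.lift (X * Y) = fr.lift X * fr.lift Y := by
  refine LinearMap.ext fun x => ?_
  simp only [Module.End.mul_apply, lift_apply, map_add, fr.coord_vec hs]
  rw [add_assoc, ← map_add, mulVec_mulVec, ← Matrix.add_mulVec, ← map_add, ← Matrix.add_mulVec]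
  congr 3
  simp only [Matrix.sub_mul, Matrix.mul_sub, Matrix.mul_one, Matrix.one_mul]
  abel

theorem lift_one : fr.lift 1 = 1 := by
  refine LinearMap.ext fun x => ?_
  simp [lift_apply]

theorem lift_of_mem (hs : Sym ω) (X : Matrix (ι ⊕ ι) (ι ⊕ ι) F) {x : V} (hx : x ∈ fr.space) :
    fr.lift X x = fr.vec (X *ᵥ fr.coord x) := by
  rw [lift_apply, Matrix.sub_mulVec, one_mulVec, map_sub, fr.vec_coord hs hx, add_sub_cancel]

theorem lift_of_perp (hs : Sym ω) (X : Matrix (ι ⊕ ι) (ι ⊕ ι) F) {x : V}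
    (hx : ∀ y ∈ fr.space, ω x y = 0) : fr.lift X x = x := by
  rw [lift_apply, fr.coord_eq_zero hs hx, mulVec_zero, map_zero, add_zero]

theorem lift_iso (hs : Sym ω) {X : Matrix (ι ⊕ ι) (ι ⊕ ι) F} (hX : Xᵀ * J ι F * X = J ι F) (x y : V) :
    ω (fr.lift X x) (fr.lift X y) = ω x y := by
  set c := fr.coord x
  set c' := fr.coord y
  have hΩ : (-J ι F)ᵀ = -(-J ι F) := by rw [transpose_neg, J_transpose, neg_neg]
  have hcy : ∀ d, ω x (fr.vec d) = c ⬝ᵥ (-J ι F) *ᵥ d := by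
    intro d
    rw [hs.swap, fr.omega_vec_left hs, dotProduct_mulVec, dotProduct_comm, ← mulVec_transpose, hΩ,
      Matrix.neg_mulVec, dotProduct_neg, neg_neg]
  have hX' : Xᵀ * (-J ι F) * X = -J ι F := by rw [Matrix.mul_neg, Matrix.neg_mul, hX]
  rw [lift_apply, lift_apply]
  simp only [map_add, LinearMap.add_apply, hcy, fr.omega_vec_left hs, fr.coord_vec hs]
  have hA : ∀ (A : Matrix (ι ⊕ ι) (ι ⊕ ι) F) (w : ι ⊕ ι → F),
      (A *ᵥ c) ⬝ᵥ w = c ⬝ᵥ Aᵀ *ᵥ w := fun A w => by rw [dotProduct_mulVec c, vecMul_transpose]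
  have e1 : ((X - 1) *ᵥ c) ⬝ᵥ (-J ι F) *ᵥ c' = c ⬝ᵥ ((X - 1)ᵀ * (-J ι F)) *ᵥ c' := by
    rw [hA, mulVec_mulVec]
  have e2 : c ⬝ᵥ (-J ι F) *ᵥ ((X - 1) *ᵥ c') = c ⬝ᵥ ((-J ι F) * (X - 1)) *ᵥ c' := by rw [mulVec_mulVec]
  have e3 : ((X - 1) *ᵥ c) ⬝ᵥ (-J ι F) *ᵥ ((X - 1) *ᵥ c') =
      c ⬝ᵥ ((X - 1)ᵀ * (-J ι F) * (X - 1)) *ᵥ c' := by
    rw [hA, mulVec_mulVec, mulVec_mulVec]
  have hc : ω x y + 0 = ω x y := add_zero _
  rw [e1, e2, e3]
  have hsum : (X - 1)ᵀ * (-J ι F) + ((-J ι F) * (X - 1) + (X - 1)ᵀ * (-J ι F) * (X - 1)) = 0 := by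
    rw [transpose_sub, transpose_one]
    simp only [Matrix.sub_mul, Matrix.mul_sub, Matrix.mul_one, Matrix.one_mul, hX']
    abel
  have := congrArg (fun M => c ⬝ᵥ M *ᵥ c') hsum
  simp only [Matrix.add_mulVec, dotProduct_add, Matrix.zero_mulVec, dotProduct_zero] at this
  linear_combination this

end Frame

variable [FiniteDimensional F V]

/-- Isometries fixing the orthogonal of `P` and preserving `P`. -/
def IsLoc (ω : LinearMap.BilinForm F V) (P : Submodule F V) (a : Module.End F V) : Prop :=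
  (∀ x y, ω (a x) (a y) = ω x y) ∧ (∀ x, (∀ y ∈ P, ω x y = 0) → a x = x) ∧ ∀ x ∈ P, a x ∈ P

/-- `g` agrees on `P` with a commutator of isometries living on `P`. -/
def CommOn (ω : LinearMap.BilinForm F V) (g : Module.End F V) (P : Submodule F V) : Prop :=
  ∃ a b a' b' : Module.End F V, IsLoc ω P a ∧ IsLoc ω P b ∧ IsLoc ω P a' ∧ IsLoc ω P b' ∧
    a * a' = 1 ∧ a' * a = 1 ∧ b * b' = 1 ∧ b' * b = 1 ∧ ∀ x ∈ P, g x = a (b (a' (b' x)))

theorem commOn_bot (ω : LinearMap.BilinForm F V) (g : Module.End F V) : CommOn ω g ⊥ := by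
  have h : IsLoc ω (⊥ : Submodule F V) (1 : Module.End F V) :=
    ⟨fun _ _ => rfl, fun _ _ => rfl, fun _ h => h⟩
  refine ⟨1, 1, 1, 1, h, h, h, h, mul_one _, mul_one _, mul_one _, mul_one _, fun x hx => ?_⟩
  rw [(Submodule.mem_bot F).1 hx]; simp

theorem IsLoc.mul_sup {ω : LinearMap.BilinForm F V} (hs : Sym ω) {P Q : Submodule F V}
    (hPQ : Perp ω P Q) {u v : Module.End F V} (hu : IsLoc ω P u) (hv : IsLoc ω Q v) :
    IsLoc ω (P ⊔ Q) (u * v) := by
  refine ⟨fun x y => by simp [hu.1, hv.1], fun x hx => ?_, fun x hx => ?_⟩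
  · rw [Module.End.mul_apply, hv.2.1 x fun y hy => hx y (Submodule.mem_sup_right hy),
      hu.2.1 x fun y hy => hx y (Submodule.mem_sup_left hy)]
  · obtain ⟨p, hp, q, hq, rfl⟩ := Submodule.mem_sup.1 hx
    rw [Module.End.mul_apply, map_add, map_add, hv.2.1 p (hPQ p hp),
      hu.2.1 _ ((hPQ.symm hs) _ (hv.2.2 q hq))]
    exact Submodule.add_mem_sup (hu.2.2 p hp) (hv.2.2 q hq)

theorem CommOn.sup {ω : LinearMap.BilinForm F V} (hs : Sym ω) {g : Module.End F V} {P Q : Submodule F V}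
    (hP : CommOn ω g P) (hQ : CommOn ω g Q) (hPQ : Perp ω P Q) : CommOn ω g (P ⊔ Q) := by
  obtain ⟨a, b, a', b', ha, hb, ha', hb', haa, ha'a, hbb, hb'b, hg⟩ := hP
  obtain ⟨c, d, c', d', hc, hd, hc', hd', hcc, hc'c, hdd, hd'd, hh⟩ := hQ
  have fixP : ∀ u, IsLoc ω Q u → ∀ x ∈ P, u x = x := fun u hu x hx => hu.2.1 x (hPQ x hx)
  have fixQ : ∀ u, IsLoc ω P u → ∀ x ∈ Q, u x = x := fun u hu x hx => hu.2.1 x ((hPQ.symm hs) x hx)
  have hswap : ∀ u v, IsLoc ω Q u → IsLoc ω P v → IsLoc ω (P ⊔ Q) (u * v) := fun u v hu hv => by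
    rw [sup_comm]; exact IsLoc.mul_sup hs (hPQ.symm hs) hu hv
  refine ⟨a * c, b * d, c' * a', d' * b', IsLoc.mul_sup hs hPQ ha hc, IsLoc.mul_sup hs hPQ hb hd,
    hswap _ _ hc' ha', hswap _ _ hd' hb',
    by rw [mul_assoc, ← mul_assoc c, hcc, one_mul, haa],
    by rw [mul_assoc, ← mul_assoc a', ha'a, one_mul, hc'c],
    by rw [mul_assoc, ← mul_assoc d, hdd, one_mul, hbb],
    by rw [mul_assoc, ← mul_assoc b', hb'b, one_mul, hd'd], fun x hx => ?_⟩
  obtain ⟨p, hp, q, hq, rfl⟩ := Submodule.mem_sup.1 hx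
  simp only [Module.End.mul_apply, map_add]
  have e1 : b' p ∈ P := hb'.2.2 p hp
  have e2 : a' (b' p) ∈ P := ha'.2.2 _ e1
  have f1 : d' q ∈ Q := hd'.2.2 q hq
  have f2 : c' (d' q) ∈ Q := hc'.2.2 _ f1
  rw [fixP d' hd' _ e1, fixP c' hc' _ e2, fixP d hd _ e2, fixP c hc _ (hb.2.2 _ e2), hg p hp,
    fixQ b' hb' q hq, fixQ a' ha' _ f1, fixQ b hb _ (hd.2.2 _ f2), fixQ a ha _ (hc.2.2 _ (hd.2.2 _ f2)),
    hh q hq]

end CfsgLib.OreSp
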