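import Cfsg.Agent.OreSp.Pieces

/-!
# Every isometry has a good orthogonal piece
-/

set_option autoImplicit false

namespace CfsgLib.OreSp

open Module LinearMap Polynomial

variable {F : Type*} [Field F] {V : Type*} [AddCommGroup V] [Module F V]
variable {ω : LinearMap.BilinForm F V} {g g' : Module.End F V}

theorem exists_irred [FiniteDimensional F V] {P : Submodule F V} (hne : P ≠ ⊥)
    (hP : ∀ x ∈ P, g x ∈ P) :
    ∃ q : F[X], Irreducible q ∧ q.Monic ∧ ∃ x ∈ P, x ≠ 0 ∧ aeval g q x = 0 := by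
  suffices h : ∀ f : F[X], f ≠ 0 → (∃ x ∈ P, x ≠ 0 ∧ aeval g f x = 0) →
      ∃ q : F[X], Irreducible q ∧ ∃ x ∈ P, x ≠ 0 ∧ aeval g q x = 0 by
    obtain ⟨x, hx, hx0⟩ := Submodule.exists_mem_ne_zero_of_ne_bot hne
    obtain ⟨q, hq, y, hy, hy0, hqy⟩ := h (minpoly F g) (minpoly.ne_zero (IsIntegral.of_finite F g))
      ⟨x, hx, hx0, by rw [minpoly.aeval]; rfl⟩
    refine ⟨q * C q.leadingCoeff⁻¹, irreducible_mul_leadingCoeff_inv.2 hq,
      monic_mul_leadingCoeff_inv hq.ne_zero, y, hy, hy0, ?_⟩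
    rw [mul_comm, aeval_mul_apply, hqy, map_zero]
  intro f
  induction f using UniqueFactorizationMonoid.induction_on_prime with
  | h₁ => intro h; exact absurd rfl h
  | h₂ u hu =>
    rintro - ⟨x, -, hx0, hux⟩
    obtain ⟨w, hw⟩ := hu.exists_left_inv
    exact absurd (by
      calc x = aeval g (w * u) x := by rw [hw, map_one]; rfl
        _ = 0 := by rw [aeval_mul_apply, hux, map_zero]) hx0
  | h₃ a p ha hp ih =>
    rintro - ⟨x, hx, hx0, hpa⟩
    rcases eq_or_ne (aeval g a x) 0 with h | h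
    · exact ih ha ⟨x, hx, hx0, h⟩
    · exact ⟨p, hp.irreducible, _, aeval_mem hP a hx, h, by rw [← aeval_mul_apply, hpa]⟩

theorem bezout_pow {q r : F[X]} (hq : Irreducible q) {k : ℕ} (h : ¬ q ^ (k + 1) ∣ r) :
    ∃ u v, q ^ k = u * r + v * q ^ (k + 1) := by
  classical
  obtain ⟨i, hi, hass⟩ :=
    (dvd_prime_pow hq.prime (k + 1)).1 (gcd_dvd_right r (q ^ (k + 1)))
  have hik : i ≤ k := by
    by_contra hc
    rw [show i = k + 1 by omega] at hass
    exact h (hass.symm.dvd.trans (gcd_dvd_left _ _))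
  obtain ⟨u, v, huv⟩ := exists_gcd_eq_mul_add_mul r (q ^ (k + 1))
  obtain ⟨w, hw⟩ := hass.dvd.trans (pow_dvd_pow q hik)
  exact ⟨u * w, v * w, by rw [hw, huv]; ring⟩

theorem cyc_symm [FiniteDimensional F V] (hg : Isom ω g g') (x : V) : Cyc g' x = Cyc g x :=
  le_antisymm (cyc_le (hg.map_mem (cyc_inv g x)) (self_mem_cyc g x))
    (cyc_le (hg.symm.map_mem (cyc_inv g' x)) (self_mem_cyc g' x))

theorem pair_inj [FiniteDimensional F V] (hg : Isom ω g g') {q : F[X]} (hq : Irreducible q) {k : ℕ}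
    {a b w : V} (ha : aeval g (q ^ (k + 1)) a = 0) (hw : w ∈ Cyc g b)
    (hab : ω (aeval g (q ^ k) a) w ≠ 0) :
    ∀ z ∈ Cyc g a, (∀ y ∈ Cyc g b, ω z y = 0) → z = 0 := by
  intro z hz h
  obtain ⟨r, rfl⟩ := mem_cyc.1 hz
  by_cases hd : q ^ (k + 1) ∣ r
  · obtain ⟨t, rfl⟩ := hd
    rw [mul_comm, aeval_mul_apply, ha, map_zero]
  obtain ⟨u, v, huv⟩ := bezout_pow hq hd
  refine absurd ?_ hab
  rw [huv, map_add, LinearMap.add_apply, aeval_mul_apply, aeval_mul_apply, ha, map_zero, add_zero,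
    hg.adj_aeval u]
  exact h _ (aeval_mem (hg.map_mem (cyc_inv g b)) u hw)

theorem fitting [FiniteDimensional F V] (T : Module.End F V) {P : Submodule F V}
    (hT : ∀ x ∈ P, T x ∈ P) :
    ∃ n0, ∀ n, n0 ≤ n → ∀ x ∈ P, ∃ a ∈ P, ∃ c ∈ P, (T ^ n) a = 0 ∧ x = a + (T ^ n) c := by
  obtain ⟨n0, hn⟩ := Filter.eventually_atTop.1 (T.restrict hT).eventually_isCompl_ker_pow_range_pow
  refine ⟨n0, fun n hn' x hx => ?_⟩
  have hmem : (⟨x, hx⟩ : P) ∈ ker (T.restrict hT ^ n) ⊔ range (T.restrict hT ^ n) := by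
    rw [(hn n hn').sup_eq_top]; exact Submodule.mem_top
  obtain ⟨a, ha, b, ⟨c, rfl⟩, hab⟩ := Submodule.mem_sup.1 hmem
  rw [LinearMap.mem_ker, Module.End.pow_restrict n] at ha
  refine ⟨a, a.2, c, c.2, congrArg Subtype.val ha, ?_⟩
  have h := congrArg Subtype.val hab
  rw [Module.End.pow_restrict n] at h
  exact h.symm

theorem exists_top {Q : Module.End F V} {K : Submodule F V} {n : ℕ}
    (hK : ∀ x ∈ K, (Q ^ n) x = 0) (hne : ∃ x ∈ K, x ≠ 0) :
    ∃ k, k < n ∧ (∀ x ∈ K, (Q ^ (k + 1)) x = 0) ∧ ∃ a ∈ K, (Q ^ k) a ≠ 0 := by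
  induction n with
  | zero =>
    obtain ⟨x, hx, hx0⟩ := hne
    exact absurd (by simpa using hK x hx) hx0
  | succ n ih =>
    by_cases h : ∀ x ∈ K, (Q ^ n) x = 0
    · obtain ⟨k, hk, h1, h2⟩ := ih h
      exact ⟨k, by omega, h1, h2⟩
    · push Not at h
      exact ⟨n, by omega, hK, h⟩

/-- Every nonzero invariant nondegenerate subspace contains a good piece. -/
theorem exists_good_piece [FiniteDimensional F V] [Fintype F] (hs : Sym ω) (hg : Isom ω g g')
    {P : Submodule F V} (hP : Nd ω P) (hinv : ∀ x ∈ P, g x ∈ P) (hne : P ≠ ⊥) :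
    ∃ Q ≤ P, Q ≠ ⊥ ∧ Nd ω Q ∧ (∀ y ∈ Q, g y ∈ Q) ∧ (OneAt ω g Q ∨ WPiece ω g Q) := by
  obtain ⟨q, hq, hqm, x0, hx0P, hx0, hqx0⟩ := exists_irred hne hinv
  obtain ⟨s, hsp⟩ := hg.exists_poly
  set q' := q.comp s
  have hinv' := hg.map_mem hinv
  have hq' : ∀ n, aeval g (q' ^ n) = aeval g' (q ^ n) := fun n => by
    rw [map_pow, map_pow, aeval_comp, hsp]
  have hadj : ∀ n (x y : V), ω (aeval g (q ^ n) x) y = ω x (aeval g (q' ^ n) y) := fun n x y => by
    rw [hq', hg.adj_aeval]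
  have hadj' : ∀ n (x y : V), ω (aeval g (q' ^ n) x) y = ω x (aeval g (q ^ n) y) := fun n x y => by
    rw [hq', hg.symm.adj_aeval]
  have hpowm : ∀ (r : F[X]) n x, (aeval g r ^ n) x = aeval g (r ^ n) x := fun r n x => by
    rw [map_pow]
  obtain ⟨n1, hF1⟩ := fitting (aeval g q) (fun x hx => aeval_mem hinv q hx)
  obtain ⟨n2, hF2⟩ := fitting (aeval g q') (fun x hx => aeval_mem hinv q' hx)
  obtain ⟨n, hn1, hn2, hn⟩ : ∃ n, n1 ≤ n ∧ n2 ≤ n ∧ 1 ≤ n := ⟨n1 + n2 + 1, by omega⟩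
  let K : Submodule F V := P ⊓ ker (aeval g (q ^ n))
  let K' : Submodule F V := P ⊓ ker (aeval g (q' ^ n))
  have hKinv : ∀ (r : F[X]), ∀ x ∈ P ⊓ ker (aeval g r), g x ∈ P ⊓ ker (aeval g r) := fun r x hx => by
    refine ⟨hinv x hx.1, LinearMap.mem_ker.2 ?_⟩
    have h : aeval g r (g x) = g (aeval g r x) := by simpa using aeval_comm r X g x
    rw [h, LinearMap.mem_ker.1 hx.2, map_zero]
  have hdvd : ∀ (a b : F[X]) (x : V), a ∣ b → aeval g a x = 0 → aeval g b x = 0 := by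
    rintro a b x ⟨c, rfl⟩ h
    rw [mul_comm, aeval_mul_apply, h, map_zero]
  have hx0K : x0 ∈ K := ⟨hx0P, hdvd q _ x0 (dvd_pow_self q (by omega)) hqx0⟩
  obtain ⟨k, hk, hkill, a, ha, hka⟩ := exists_top (Q := aeval g q) (K := K) (n := n)
    (fun x hx => by rw [hpowm]; exact hx.2) ⟨x0, hx0K, hx0⟩
  simp only [hpowm] at hkill hka
  by_cases hqq : q ∣ q'
  swap
  · -- the two primary components are disjoint and paired
    have hcop : ∀ m l, IsCoprime (q ^ m) (q' ^ l) := fun m l =>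
      (hq.coprime_iff_not_dvd.2 hqq).pow
    have hkey : ∀ x, aeval g (q ^ n) x = 0 → ∃ v : F[X], x = aeval g (v * q' ^ n) x := by
      intro x hx
      obtain ⟨u, v, huv⟩ := hcop n n
      refine ⟨v, ?_⟩
      calc x = aeval g (u * q ^ n + v * q' ^ n) x := by rw [huv, map_one]; rfl
        _ = _ := by rw [map_add, LinearMap.add_apply, aeval_mul_apply u, hx, map_zero, zero_add]
    have hiso : ∀ x ∈ K, ∀ y ∈ K, ω x y = 0 := by
      intro x hx y hy
      obtain ⟨v, hv⟩ := hkey x hx.2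
      rw [hv, mul_comm, aeval_mul_apply, hadj', LinearMap.mem_ker.1 hy.2, map_zero]
    have hiso' : ∀ x ∈ K', ∀ y ∈ K', ω x y = 0 := by
      intro x hx y hy
      obtain ⟨u, v, huv⟩ := hcop n n
      have hx' : x = aeval g (q ^ n * u) x := by
        calc x = aeval g (u * q ^ n + v * q' ^ n) x := by rw [huv, map_one]; rfl
          _ = _ := by
            rw [map_add, LinearMap.add_apply, aeval_mul_apply v, LinearMap.mem_ker.1 hx.2, map_zero,
              add_zero, mul_comm]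
      rw [hx', aeval_mul_apply, hadj, LinearMap.mem_ker.1 hy.2, map_zero]
    obtain ⟨y, hy, hay⟩ : ∃ y ∈ P, ω (aeval g (q ^ k) a) y ≠ 0 := by
      by_contra hno
      push Not at hno
      exact hka (hP _ (aeval_mem hinv _ ha.1) hno)
    obtain ⟨b, hbP, c, -, hb, rfl⟩ := hF2 n hn2 y hy
    rw [hpowm] at hb
    have hQa : aeval g (q ^ k) a ∈ K := ⟨aeval_mem hinv _ ha.1, LinearMap.mem_ker.2 (by
      rw [aeval_comm, LinearMap.mem_ker.1 ha.2, map_zero])⟩
    have hab : ω (aeval g (q ^ k) a) b ≠ 0 := by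
      rwa [hpowm, map_add, ← hadj n, LinearMap.mem_ker.1 hQa.2, map_zero, LinearMap.zero_apply,
        add_zero] at hay
    have hbK : b ∈ K' := ⟨hbP, hb⟩
    have hb1 : aeval g' (q ^ (k + 1)) b = 0 := by
      rw [← hq']
      refine hP _ (aeval_mem hinv _ hbP) fun z hz => ?_
      obtain ⟨z0, hz0P, d, -, hz0, rfl⟩ := hF1 n hn1 z hz
      rw [hpowm] at hz0
      rw [hadj', map_add, hkill z0 ⟨hz0P, hz0⟩, zero_add, hpowm, aeval_comm, hs.swap, hadj n, hb]
      simp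
    have hab' : ω (aeval g' (q ^ k) b) a ≠ 0 := by
      rw [← hq', hadj', hs.swap]
      simpa using hab
    set x := a + b with hxdef
    have hxP : x ∈ P := P.add_mem ha.1 hbP
    have hax : a ∈ Cyc g x := by
      obtain ⟨v, hv⟩ := hkey a ha.2
      refine mem_cyc.2 ⟨v * q' ^ n, ?_⟩
      rw [hxdef, map_add, ← hv, aeval_mul_apply, hb, map_zero, add_zero]
    have hbx : b ∈ Cyc g x := by
      have h := Submodule.sub_mem _ (self_mem_cyc g x) hax
      rwa [hxdef, add_sub_cancel_left] at h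
    have hA : Cyc g a ≤ K := cyc_le (hKinv _) ha
    have hB : Cyc g b ≤ K' := cyc_le (hKinv _) hbK
    have hnd : Nd ω (Cyc g x) := by
      intro z hz hzo
      obtain ⟨p, rfl⟩ := mem_cyc.1 hz
      have h1 : aeval g p a = 0 := pair_inj hg hq (hkill a ha) (self_mem_cyc g b) hab _ ⟨p, rfl⟩
        fun y hy => by
          have h := hzo y (cyc_le (cyc_inv g x) hbx hy)
          rwa [hxdef, map_add, map_add, LinearMap.add_apply,
            hiso' _ (hB (mem_cyc.2 ⟨p, rfl⟩)) y (hB hy), add_zero] at h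
      have h2 : aeval g p b = 0 := pair_inj hg.symm hq hb1 (self_mem_cyc g' a) hab' _
        ((cyc_symm hg b).symm ▸ ⟨p, rfl⟩) fun y hy => by
          rw [cyc_symm hg] at hy
          have h := hzo y (cyc_le (cyc_inv g x) hax hy)
          rwa [hxdef, map_add, map_add, LinearMap.add_apply,
            hiso _ (hA (mem_cyc.2 ⟨p, rfl⟩)) y (hA hy), zero_add] at h
      rw [hxdef, map_add, h1, h2, add_zero]
    refine ⟨Cyc g x, cyc_le hinv hxP, fun e => ?_, hnd, cyc_inv g x,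
      .inl (oneAt_cyc hs hg x hnd)⟩
    rw [e, Submodule.mem_bot] at hax
    exact hka (by rw [hax, map_zero])
  -- a self-dual component
  have hKK' : K ≤ K' := fun x hx => ⟨hx.1, hdvd _ _ x (pow_dvd_pow_of_dvd hqq n) hx.2⟩
  have hKnd : Nd ω K := fun x hx h => hP x hx.1 fun y hy => by
    obtain ⟨y0, hy0P, c, -, hy0, rfl⟩ := hF1 n hn1 y hy
    rw [hpowm] at hy0 ⊢
    rw [map_add, h y0 ⟨hy0P, hy0⟩, ← hadj', LinearMap.mem_ker.1 (hKK' hx).2]
    simp
  by_cases hcyc : ∃ x ∈ K, ∃ u : F[X], ω (aeval g (q ^ k) (aeval g u x)) x ≠ 0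
  · obtain ⟨x, hx, u, hxu⟩ := hcyc
    have hnd : Nd ω (Cyc g x) := fun z hz hzo =>
      pair_inj hg hq (hkill x hx) (aeval_mem (hg.map_mem (cyc_inv g x)) u (self_mem_cyc g x))
        (by rwa [← hg.adj_aeval, aeval_comm]) z hz hzo
    refine ⟨Cyc g x, cyc_le hinv hx.1, fun e => ?_, hnd, cyc_inv g x,
      .inl (oneAt_cyc hs hg x hnd)⟩
    have h := self_mem_cyc g x
    rw [e, Submodule.mem_bot] at h
    exact hxu (by simp [h])
  push Not at hcyc
  have hsym : ∀ r : F[X], ∀ x ∈ K, aeval g (q ^ k * r) x = aeval g' (q ^ k * r) x := by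
    intro r x hx
    have hd : ∀ z ∈ K, ω (aeval g (q ^ k * r) z) z = 0 := fun z hz => by
      rw [aeval_mul_apply]; exact hcyc z hz r
    have hm : ∀ (f : Module.End F V), (∀ z ∈ K, f z ∈ K) → ∀ p, aeval f p x ∈ K := fun f hf p =>
      aeval_mem hf p hx
    refine sub_eq_zero.1 (hKnd _ (Submodule.sub_mem _ (hm g (hKinv _) _)
      (hm g' (hg.map_mem (hKinv _)) _)) fun y hy => ?_)
    have h := hd _ (K.add_mem hx hy)
    simp only [map_add, LinearMap.add_apply, hd x hx, hd y hy, zero_add, add_zero] at h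
    rw [map_sub, LinearMap.sub_apply, hg.symm.adj_aeval, hs.swap (aeval g (q ^ k * r) y) x]
    linear_combination h
  set z := aeval g (q ^ k) a with hzdef
  have hz1 : aeval g q z = 0 := by
    rw [hzdef, ← aeval_mul_apply, ← pow_succ']; exact hkill a ha
  have hz2 : aeval g (X ^ 2 - 1 : F[X]) z = 0 := by
    have e1 : g z = g' z := by
      have h := hsym X a ha
      have h0 := hsym 1 a ha
      rw [mul_one] at h0
      rw [mul_comm, aeval_mul_apply, aeval_mul_apply, aeval_X, aeval_X, ← h0] at h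
      exact h
    rw [pow_two, map_sub, map_one, map_mul, aeval_X, LinearMap.sub_apply, Module.End.one_apply,
      Module.End.mul_apply]
    rw [e1, hg.apply, sub_self]
  have hq2 : q ∣ (X ^ 2 - 1 : F[X]) := by
    by_contra hn'
    obtain ⟨u, v, huv⟩ := hq.coprime_iff_not_dvd.2 hn'
    refine hka ?_
    calc z = aeval g (u * q + v * (X ^ 2 - 1)) z := by rw [huv, map_one]; rfl
      _ = 0 := by
        rw [map_add, LinearMap.add_apply, aeval_mul_apply, aeval_mul_apply, hz1, hz2, map_zero,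
          map_zero, add_zero]
  obtain ⟨ε, hε, hqε⟩ : ∃ ε : F, ε * ε = 1 ∧ q = X - C ε := by
    rw [show (X ^ 2 - 1 : F[X]) = (X - C 1) * (X - C (-1)) by rw [map_neg, map_one]; ring] at hq2
    rcases hq.prime.dvd_or_dvd hq2 with h | h
    · exact ⟨1, one_mul 1, eq_of_monic_of_associated hqm (monic_X_sub_C _)
        (hq.associated_of_dvd (irreducible_X_sub_C _) h)⟩
    · exact ⟨-1, by ring, eq_of_monic_of_associated hqm (monic_X_sub_C _)
        (hq.associated_of_dvd (irreducible_X_sub_C _) h)⟩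
  have hNN : ∀ m, aeval g (q ^ m) = NN g ε ^ m := fun m => by
    rw [map_pow, hqε, map_sub, aeval_X, aeval_C, Algebra.algebraMap_eq_smul_one]; rfl
  have hu : Unip ω g g' ε K k :=
    ⟨hs, hg, hε, hKnd, hKinv _, fun x hx => by rw [← hNN]; exact hkill x hx,
      fun x hx => by simpa [← hNN] using hcyc x hx 1⟩
  obtain ⟨Q, hQK, h⟩ := exists_piece hu ha (by rw [← hNN]; exact hka)
  exact ⟨Q, hQK.trans inf_le_left, h⟩

end CfsgLib.OreSp
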